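import Groth.Agent.CycK0Lib.Cycles
import Groth.Agent.CycC1Lib.Cap
import Groth.Agent.QCohLib.Gen
import Groth.Agent.DevissLib.ClosedImm

/-!
# Values in a residue field, and the structure module of a reduced closure as a submodule of a skyscraper
-/

set_option autoImplicit false
set_option linter.style.haveILetI false
set_option linter.unusedSectionVars false

universe u v

open CategoryTheory CategoryTheory.Limits AlgebraicGeometry TopologicalSpace Opposite
open IsLocalRing (maximalIdeal)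

noncomputable section

namespace CycK0Lib

open DevissLib (St)
open KFlatLib (skyObj skyLift skyCounit skyMk skyVal)

variable {X : Scheme.{u}}

/-- The residue field at a point as a module over the local ring. -/
abbrev kmod (ξ : X) : ModuleCat.{u} (X.presheaf.stalk ξ) :=
  ModuleCat.of (X.presheaf.stalk ξ) (IsLocalRing.ResidueField (X.presheaf.stalk ξ))

theorem kmod_smul (ξ : X) (r : X.presheaf.stalk ξ) (c : kmod ξ) :
    (show X.residueField ξ from (r • c : kmod ξ)) = X.residue ξ r * (show X.residueField ξ from c) := by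
  exact Algebra.smul_def r (show IsLocalRing.ResidueField (X.presheaf.stalk ξ) from c)

theorem isQCoh_sky_kmod (ξ : X) : Coh.IsQCoh (skyObj ξ (kmod ξ)) :=
  isQCoh_sky ξ _ fun r hr => ⟨1, fun c => by
    refine (kmod_smul ξ (r ^ 1) c).trans ?_
    rw [pow_one, show X.residue ξ r = 0 from (IsLocalRing.residue_eq_zero_iff r).2 hr, zero_mul]
    rfl⟩

variable {M : X.Modules} {ξ y : X}

/-- The value at `ξ` of a germ at `y` of the image in a skyscraper. -/
def val (a : M ⟶ skyObj ξ (kmod ξ)) (h : ξ ⤳ y) : (St y).obj M →+ X.residueField ξ where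
  toFun m := (skyCounit ξ (kmod ξ)).hom.hom
    ((skyObj ξ (kmod ξ)).presheaf.stalkSpecializes h (((St y).map a).hom m))
  map_zero' := by
    rw [map_zero]
    exact (congrArg _ (map_zero ((skyObj ξ (kmod ξ)).presheaf.stalkSpecializes h).hom)).trans (map_zero _)
  map_add' m n := by
    rw [map_add]
    exact (congrArg _ (map_add ((skyObj ξ (kmod ξ)).presheaf.stalkSpecializes h).hom _ _)).trans (map_add _ _ _)

theorem val_smul (a : M ⟶ skyObj ξ (kmod ξ)) (h : ξ ⤳ y) (r : X.presheaf.stalk y) (m : (St y).obj M) :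
    val a h (r • m) = Cyc.specMap y ξ h r * val a h m := by
  show (skyCounit ξ (kmod ξ)).hom.hom
    ((skyObj ξ (kmod ξ)).presheaf.stalkSpecializes h (((St y).map a).hom (r • m))) = _
  rw [map_smul]
  refine (congrArg (skyCounit ξ (kmod ξ)).hom.hom (CycC1Lib.stalkSpecializes_smul _ h r _)).trans ?_
  exact (map_smul (skyCounit ξ (kmod ξ)).hom.hom _ _).trans (kmod_smul ξ _ _)

theorem val_germ (a : M ⟶ skyObj ξ (kmod ξ)) (h : ξ ⤳ y) {U : X.Opens} (hy : y ∈ U) (s : Γ(M, U)) :
    val a h (M.presheaf.germ U y hy s) = skyVal ξ (h.mem_open U.2 hy) (a.app U s) := by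
  show (skyCounit ξ (kmod ξ)).hom.hom
    ((skyObj ξ (kmod ξ)).presheaf.stalkSpecializes h (((St y).map a).hom (M.presheaf.germ U y hy s))) = _
  refine (congrArg (fun w => (skyCounit ξ (kmod ξ)).hom.hom
    ((skyObj ξ (kmod ξ)).presheaf.stalkSpecializes h w)) (DerSch.stalkFunctor_map_germ y a U hy s)).trans ?_
  refine (congrArg (skyCounit ξ (kmod ξ)).hom.hom
    (TopCat.Presheaf.germ_stalkSpecializes_apply _ hy h _)).trans ?_
  exact KFlatLib.skyCounit_germ ξ _ _ _

theorem val_skyLift (θ : (St ξ).obj M ⟶ kmod ξ) (h : ξ ⤳ y) {U : X.Opens} (hy : y ∈ U) (s : Γ(M, U)) :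
    val (skyLift ξ θ) h (M.presheaf.germ U y hy s) = θ.hom (M.presheaf.germ U ξ (h.mem_open U.2 hy) s) :=
  (val_germ _ h hy s).trans (KFlatLib.skyLift_app ξ θ _ s)

theorem val_comp {N : X.Modules} (p : N ⟶ M) (a : M ⟶ skyObj ξ (kmod ξ)) (h : ξ ⤳ y) (n : (St y).obj N) :
    val a h (((St y).map p).hom n) = val (p ≫ a) h n := by
  show (skyCounit ξ (kmod ξ)).hom.hom _ = (skyCounit ξ (kmod ξ)).hom.hom _
  rw [Functor.map_comp]
  rfl

theorem eq_zero_of_val (a : M ⟶ skyObj ξ (kmod ξ)) (h : ξ ⤳ y) {m : (St y).obj M} (hm : val a h m = 0) :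
    ((St y).map a).hom m = 0 := by
  obtain ⟨U, hy, s, rfl⟩ := M.presheaf.exists_germ_eq (x := y) m
  rw [val_germ] at hm
  refine (DerSch.stalkFunctor_map_germ y a U hy s).trans ?_
  have h0 : a.app U s = 0 := KFlatLib.skyObj_ext ξ _ _ _ fun _ => hm
  rw [h0]
  exact map_zero _

theorem map_eq_iff_val (a : M ⟶ skyObj ξ (kmod ξ)) (h : ξ ⤳ y) {N : X.Modules} (b : N ⟶ skyObj ξ (kmod ξ))
    (m : (St y).obj M) (n : (St y).obj N) :
    ((St y).map a).hom m = ((St y).map b).hom n ↔ val a h m = val b h n := by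
  have ea : val (𝟙 _) h (((St y).map a).hom m) = val a h m := by rw [val_comp, Category.comp_id]
  have eb : val (𝟙 _) h (((St y).map b).hom n) = val b h n := by rw [val_comp, Category.comp_id]
  refine ⟨fun e => by rw [← ea, e, eb], fun e => sub_eq_zero.1 ?_⟩
  have h0 : val (𝟙 _) h (((St y).map a).hom m - ((St y).map b).hom n) = 0 := by
    rw [map_sub, ea, eb, e, sub_self]
  exact (congr($(CategoryTheory.Functor.map_id (St y) (skyObj ξ (kmod ξ))).hom
    (((St y).map a).hom m - ((St y).map b).hom n))).symm.trans (eq_zero_of_val _ h h0)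

/-- A submodule of the skyscraper is supported on the closure of the point. -/
theorem support_le_closure (a : M ⟶ skyObj ξ (kmod ξ)) [Mono a] : CohB1.support M ⊆ closure {ξ} :=
  (DevissLib.support_mono a).trans (support_sky ξ _)

theorem mono_of_stalks {A B : X.Modules} (f : A ⟶ B) (h : ∀ x, Function.Injective ((St x).map f).hom) : Mono f := by
  refine Preadditive.mono_of_isZero_kernel f (KFlatLib.isZero_of_stalks fun x => ?_)
  exact not_not.mp fun hx => DevissLib.notMem_support_kernel f x (h x) hx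

/-- The unit section of the skyscraper. -/
def skyOne (ξ : X) : Γ(skyObj ξ (kmod ξ), ⊤) := skyMk ξ fun _ => (1 : X.residueField ξ)

/-- The structure module of the reduced closure of `ξ`, as the image of `O_X` in the skyscraper. -/
abbrev N (ξ : X) : X.Modules := Abelian.image (QCohLib.unitHom (skyObj ξ (kmod ξ)) (skyOne ξ))

/-- The embedding into the skyscraper. -/
abbrev bN (ξ : X) : N ξ ⟶ skyObj ξ (kmod ξ) := Abelian.image.ι _

/-- The unit section. -/
def uSec (ξ : X) (U : X.Opens) : Γ(N ξ, U) :=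
  (Abelian.factorThruImage (QCohLib.unitHom (skyObj ξ (kmod ξ)) (skyOne ξ))).app U (1 : Γ(X, U))

theorem bN_uSec (ξ : X) {U : X.Opens} (hU : ξ ∈ U) : skyVal ξ hU ((bN ξ).app U (uSec ξ U)) = 1 := by
  let f := QCohLib.unitHom (skyObj ξ (kmod ξ)) (skyOne ξ)
  have h1 : (bN ξ).app U (uSec ξ U) = f.app U (1 : Γ(X, U)) := by
    show (Abelian.factorThruImage f ≫ Abelian.image.ι f).app U (1 : Γ(X, U)) = _
    rw [Abelian.image.fac]
  rw [h1, QCohLib.unitHom_app, one_smul]
  rfl

theorem val_uSec (h : ξ ⤳ y) {U : X.Opens} (hy : y ∈ U) :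
    val (bN ξ) h ((N ξ).presheaf.germ U y hy (uSec ξ U)) = 1 :=
  (val_germ _ h hy _).trans (bN_uSec ξ _)

theorem exists_smul_uSec {U : X.Opens} (hy : y ∈ U) (m : (St y).obj (N ξ)) :
    ∃ r : X.presheaf.stalk y, r • ((N ξ).presheaf.germ U y hy (uSec ξ U) : (N ξ).presheaf.stalk y) = m := by
  let π := Abelian.factorThruImage (QCohLib.unitHom (skyObj ξ (kmod ξ)) (skyOne ξ))
  obtain ⟨z, rfl⟩ := (ModuleCat.epi_iff_surjective ((St y).map π)).1 inferInstance m
  obtain ⟨V, hV, s, rfl⟩ := (Coh.structureModule X).presheaf.exists_germ_eq (x := y) z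
  refine ⟨X.presheaf.germ V y hV s, ?_⟩
  have hW : y ∈ U ⊓ V := ⟨hy, hV⟩
  rw [← TopCat.Presheaf.germ_res_apply X.presheaf (homOfLE (inf_le_right : U ⊓ V ≤ V)) y hW s,
    ← TopCat.Presheaf.germ_res_apply (N ξ).presheaf (homOfLE (inf_le_left : U ⊓ V ≤ U)) y hW (uSec ξ U),
    ← AmpleLib.germ_smul]
  refine Eq.trans ?_ (DerSch.stalkFunctor_map_germ y π V hV s).symm
  rw [← TopCat.Presheaf.germ_res_apply (N ξ).presheaf (homOfLE (inf_le_right : U ⊓ V ≤ V)) y hW (π.app V s)]
  congr 1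
  have e1 : (N ξ).presheaf.map (homOfLE (inf_le_left : U ⊓ V ≤ U)).op (uSec ξ U) = π.app (U ⊓ V) (1 : Γ(X, U ⊓ V)) := by
    refine Eq.trans ?_ (congrArg (π.app (U ⊓ V)) (map_one (X.presheaf.map (homOfLE (inf_le_left : U ⊓ V ≤ U)).op).hom))
    exact (congr($(π.mapPresheaf.naturality (homOfLE (inf_le_left : U ⊓ V ≤ U)).op) (1 : Γ(X, U)))).symm
  have e2 : (N ξ).presheaf.map (homOfLE (inf_le_right : U ⊓ V ≤ V)).op (π.app V s) =
      π.app (U ⊓ V) (X.presheaf.map (homOfLE (inf_le_right : U ⊓ V ≤ V)).op s) :=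
    (congr($(π.mapPresheaf.naturality (homOfLE (inf_le_right : U ⊓ V ≤ V)).op) s)).symm
  rw [e1, e2, ← QCohLib.app_smul]
  congr 1
  exact mul_one (show Γ(X, U ⊓ V) from _)

theorem subsingleton_N (h : ¬ ξ ⤳ y) : Subsingleton ((St y).obj (N ξ)) :=
  not_not.mp fun hy => h (specializes_iff_mem_closure.2 (support_le_closure (bN ξ) hy))

theorem isCoh_N [IsLocallyNoetherian X] (ξ : X) : Coh.IsCoh (N ξ) := by
  haveI : Coh.IsQCoh (skyObj ξ (kmod ξ)) := isQCoh_sky_kmod ξ
  haveI : Coh.IsQCoh (Coh.structureModule X) := QCohLib.isQCoh_unit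
  exact ⟨QCohLib.isQCoh_image _, QCohLib.isFT_of_epi
    (Abelian.factorThruImage (QCohLib.unitHom (skyObj ξ (kmod ξ)) (skyOne ξ)))
    (DevissLib.isCoh_structureModule X).2⟩

theorem length_N (ξ : X) : Module.length (X.presheaf.stalk ξ) ((St ξ).obj (N ξ)) = 1 := by
  have hinj : Function.Injective ((St ξ).map (bN ξ)).hom := (ModuleCat.mono_iff_injective _).mp inferInstance
  let ν : (St ξ).obj (N ξ) →ₗ[X.presheaf.stalk ξ] kmod ξ :=
    ((St ξ).map (bN ξ) ≫ (skyCounit ξ (kmod ξ)).hom).hom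
  have hν : Function.Bijective ν := by
    refine ⟨(ConcreteCategory.bijective_of_isIso (skyCounit ξ (kmod ξ)).hom).1.comp hinj, fun c => ?_⟩
    obtain ⟨r, hr⟩ := IsLocalRing.residue_surjective (R := X.presheaf.stalk ξ) c
    refine ⟨r • ((N ξ).presheaf.germ ⊤ ξ trivial (uSec ξ ⊤) : (N ξ).presheaf.stalk ξ), ?_⟩
    have h1 : ν ((N ξ).presheaf.germ ⊤ ξ trivial (uSec ξ ⊤)) = (1 : X.residueField ξ) := by
      show (skyCounit ξ (kmod ξ)).hom.hom (((St ξ).map (bN ξ)).hom _) = _
      refine (congrArg (skyCounit ξ (kmod ξ)).hom.hom (DerSch.stalkFunctor_map_germ ξ (bN ξ) ⊤ trivial _)).trans ?_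
      exact (KFlatLib.skyCounit_germ ξ _ _ _).trans (bN_uSec ξ _)
    refine (map_smul ν r _).trans ((congrArg (fun w : kmod ξ => r • w) h1).trans ((kmod_smul ξ r _).trans ?_))
    refine (mul_one _).trans ?_
    exact hr
  rw [(LinearEquiv.ofBijective ν hν).length_eq,
    Module.length_eq_of_surjective (R := IsLocalRing.ResidueField (X.presheaf.stalk ξ)) (S := X.presheaf.stalk ξ)
      IsLocalRing.residue_surjective]
  exact Module.length_eq_one_iff.2 inferInstance

end CycK0Lib

end
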