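import Mathlib
import Groth.Prelude.Def_ChowK
import Groth.Agent.DevissLib.Induction
import Groth.Agent.QCohLib.QCoh
import Groth.Agent.CurvLib.EulerTensor

/-!
# Locally finite coproducts of modules
-/

set_option autoImplicit false
set_option linter.style.haveILetI false
set_option linter.unusedSectionVars false

universe u

open CategoryTheory CategoryTheory.Limits AlgebraicGeometry TopologicalSpace Opposite

noncomputable section

namespace CycK0Lib

open DevissLib (St)

variable {X : Scheme.{u}} {I : Type u} (F : I → X.Modules)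

/-- The family of supports is locally finite. -/
def LocFin : Prop := LocallyFinite fun i => CohB1.support (F i)

open Classical in
/-- The projection from a coproduct. -/
def proj (i : I) : ∐ F ⟶ F i :=
  Sigma.desc fun j => if h : j = i then eqToHom (congrArg F h) else 0

@[reassoc (attr := simp)]
theorem ι_proj_self (i : I) : Sigma.ι F i ≫ proj F i = 𝟙 _ := by
  rw [proj, Sigma.ι_desc, dif_pos rfl]
  rfl

theorem ι_proj_ne {i j : I} (h : j ≠ i) : Sigma.ι F j ≫ proj F i = 0 := by
  rw [proj, Sigma.ι_desc, dif_neg h]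

variable {F}

theorem exists_finset (hF : LocFin F) (x : X) :
    ∃ (U : X.Opens) (S : Finset I), IsAffineOpen U ∧ x ∈ U ∧ ∀ y ∈ U, ∀ i ∉ S, y ∉ CohB1.support (F i) := by
  obtain ⟨t, ht, hfin⟩ := hF x
  obtain ⟨V, hVt, hV, hxV⟩ := mem_nhds_iff.1 ht
  obtain ⟨U, hU, hxU, hUV⟩ := Opens.isBasis_iff_nbhd.mp X.isBasis_affineOpens (U := ⟨V, hV⟩) (x := x) hxV
  exact ⟨U, hfin.toFinset, hU, hxU, fun y hy i hi hys =>
    hi (hfin.mem_toFinset.2 ⟨y, hys, hVt (hUV hy)⟩)⟩

theorem exists_finset_at (hF : LocFin F) (x : X) : ∃ S : Finset I, ∀ i ∉ S, x ∉ CohB1.support (F i) := by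
  obtain ⟨U, S, -, hx, h⟩ := exists_finset hF x
  exact ⟨S, h x hx⟩

variable {S : Finset I} {x : X}

theorem stalk_total (hS : ∀ i ∉ S, x ∉ CohB1.support (F i)) :
    ∑ i ∈ S, (St x).map (proj F i ≫ Sigma.ι F i) = 𝟙 ((St x).obj (∐ F)) := by
  classical
  refine Cofan.IsColimit.hom_ext (isColimitCofanMkObjOfIsColimit (St x) F _ (coproductIsCoproduct F)) _ _ fun j => ?_
  show (St x).map (Sigma.ι F j) ≫ _ = (St x).map (Sigma.ι F j) ≫ 𝟙 _
  rw [Preadditive.comp_sum, Category.comp_id]
  simp only [← Functor.map_comp]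
  by_cases hj : j ∈ S
  · rw [Finset.sum_eq_single_of_mem j hj fun i _ hi => ?_]
    · rw [ι_proj_self_assoc]
    · rw [← Category.assoc, ι_proj_ne F hi.symm, zero_comp, Functor.map_zero]
  · exact ((DevissLib.notMem_support_iff _ x).1 (hS j hj)).eq_of_src _ _

/-- The stalk of a locally finite coproduct. -/
def stalkEquiv (hS : ∀ i ∉ S, x ∉ CohB1.support (F i)) :
    (St x).obj (∐ F) ≃ₗ[X.presheaf.stalk x] (∀ i : S, (St x).obj (F i)) :=
  LinearEquiv.ofLinear (LinearMap.pi fun i => ((St x).map (proj F i.1)).hom)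
    (∑ i : S, ((St x).map (Sigma.ι F i.1)).hom ∘ₗ LinearMap.proj i)
    (LinearMap.ext fun v => funext fun i => by
      classical
      simp only [LinearMap.coe_comp, Function.comp_apply, LinearMap.pi_apply, LinearMap.id_coe, id_eq,
        LinearMap.coe_sum, Finset.sum_apply, LinearMap.proj_apply, map_sum]
      rw [Finset.sum_eq_single i (fun j _ hj => ?_) (by simp)]
      · rw [← LinearMap.comp_apply, ← ModuleCat.hom_comp, ← Functor.map_comp, ι_proj_self,
          CategoryTheory.Functor.map_id]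
        rfl
      · rw [← LinearMap.comp_apply, ← ModuleCat.hom_comp, ← Functor.map_comp,
          ι_proj_ne F (fun h => hj (Subtype.ext h)), Functor.map_zero]
        rfl)
    (LinearMap.ext fun a => by
      have h := congrArg (fun φ => φ.hom a) (stalk_total hS)
      simp only [ModuleCat.hom_sum, LinearMap.coe_sum, Finset.sum_apply, ModuleCat.hom_id, LinearMap.id_coe,
        id_eq, Functor.map_comp, ModuleCat.hom_comp, LinearMap.comp_apply] at h
      simp only [LinearMap.coe_comp, Function.comp_apply, LinearMap.coe_sum, Finset.sum_apply, LinearMap.proj_apply,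
        LinearMap.pi_apply, LinearMap.id_coe, id_eq]
      exact (Finset.sum_coe_sort S fun i => ((St x).map (Sigma.ι F i)).hom (((St x).map (proj F i)).hom a)).trans h)

theorem stalkEquiv_apply (hS : ∀ i ∉ S, x ∉ CohB1.support (F i)) (a : (St x).obj (∐ F)) (i : S) :
    stalkEquiv hS a i = ((St x).map (proj F i.1)).hom a := rfl

theorem length_stalk_sigma (hS : ∀ i ∉ S, x ∉ CohB1.support (F i)) :
    Module.length (X.presheaf.stalk x) ((St x).obj (∐ F)) =
      ∑ i ∈ S, Module.length (X.presheaf.stalk x) ((St x).obj (F i)) := by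
  rw [(stalkEquiv hS).length_eq, Module.length_pi_of_fintype,
    Finset.sum_coe_sort S fun i => Module.length (X.presheaf.stalk x) ((St x).obj (F i))]

theorem support_sigma (hF : LocFin F) : CohB1.support (∐ F) ⊆ ⋃ i, CohB1.support (F i) := by
  intro x hx
  obtain ⟨S, hS⟩ := exists_finset_at hF x
  by_contra h
  simp only [Set.mem_iUnion, not_exists] at h
  obtain ⟨a, ha⟩ := (DevissLib.mem_support_iff_nonzero _ x).1 hx
  refine ha ((stalkEquiv hS).injective ?_)
  rw [map_zero]
  funext i
  exact @Subsingleton.elim _ (not_not.mp (h i.1)) _ _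

theorem app_injective_proj {U : X.Opens} (hS : ∀ y ∈ U, ∀ i ∉ S, y ∉ CohB1.support (F i))
    (a : Γ(∐ F, U)) (h : ∀ i ∈ S, (proj F i).app U a = 0) : a = 0 := by
  refine TopCat.Presheaf.section_ext ((QCohLib.toAbF X).obj (∐ F) : TopCat.Sheaf AddCommGrpCat.{u} X.toTopCat) U a 0
    fun p hp => ?_
  show DevissLib.gm (∐ F) p hp a = DevissLib.gm (∐ F) p hp 0
  rw [DevissLib.gm_zero]
  refine (stalkEquiv (hS p hp)).injective ?_
  rw [map_zero]
  funext i
  rw [stalkEquiv_apply, DevissLib.gm_app, h i.1 i.2, DevissLib.gm_zero]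
  rfl

/-- Locally finite coproducts of coherent modules are coherent. -/
theorem isCoh_sigma [IsLocallyNoetherian X] (hF : LocFin F) (h : ∀ i, Coh.IsCoh (F i)) : Coh.IsCoh (∐ F) := by
  haveI hq : Coh.IsQCoh (∐ F) := QCohLib.isQCoh_sigma F fun i => (h i).1
  refine ⟨hq, QCohLib.isFT_of_finite fun p => ?_⟩
  obtain ⟨U, S, hU, hp, hS⟩ := exists_finset hF p
  haveI : IsNoetherianRing Γ(X, U) := IsLocallyNoetherian.component_noetherian ⟨U, hU⟩
  haveI : ∀ i, Module.Finite Γ(X, U) Γ(F i, U) := fun i =>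
    haveI : Coh.IsQCoh (F i) := (h i).1
    QCohLib.finite_of_isFT (h i).2 hU
  refine ⟨U, hU, hp, Module.Finite.of_injective (LinearMap.pi fun i : S => QCohLib.appLin (proj F i.1) U)
    fun a b hab => ?_⟩
  rw [← sub_eq_zero]
  refine app_injective_proj hS _ fun i hi => ?_
  rw [map_sub, sub_eq_zero]
  exact congrFun hab ⟨i, hi⟩

theorem LocFin.mono {G : I → X.Modules} (hF : LocFin F) (h : ∀ i, CohB1.support (G i) ⊆ CohB1.support (F i)) :
    LocFin G :=
  LocallyFinite.subset hF h

variable (T : I → ShortComplex X.Modules)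

/-- The coproduct of short complexes. -/
abbrev sigmaCx : ShortComplex X.Modules :=
  ShortComplex.mk (Limits.Sigma.map fun i => (T i).f) (Limits.Sigma.map fun i => (T i).g)
    (Sigma.hom_ext _ _ fun i => by simp)

/-- Locally finite coproducts of short exact sequences are short exact. -/
theorem sigmaCx_shortExact (hT : LocFin fun i => (T i).X₂) (h : ∀ i, (T i).ShortExact) :
    (sigmaCx T).ShortExact := by
  refine CurvLib.shortExact_of_stalks _ fun x => ?_
  obtain ⟨S, hS₂⟩ := exists_finset_at hT x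
  have hS₁ : ∀ i ∉ S, x ∉ CohB1.support (T i).X₁ := fun i hi h' =>
    hS₂ i hi (haveI := (h i).mono_f; DevissLib.support_mono (T i).f h')
  have hS₃ : ∀ i ∉ S, x ∉ CohB1.support (T i).X₃ := fun i hi h' =>
    hS₂ i hi (haveI := (h i).epi_g; DevissLib.support_epi (T i).g h')
  have hf : ∀ (a : (St x).obj (∐ fun i => (T i).X₁)) (i : S),
      stalkEquiv hS₂ (((St x).map (sigmaCx T).f).hom a) i = ((St x).map (T i.1).f).hom (stalkEquiv hS₁ a i) := by
    intro a i
    rw [stalkEquiv_apply, stalkEquiv_apply, ← LinearMap.comp_apply, ← ModuleCat.hom_comp, ← Functor.map_comp,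
      ← LinearMap.comp_apply, ← ModuleCat.hom_comp, ← Functor.map_comp]
    refine congrArg (fun φ => ((St x).map φ).hom a) (Sigma.hom_ext _ _ fun j => ?_)
    show Sigma.ι (fun i => (T i).X₁) j ≫ Limits.Sigma.map (fun i => (T i).f) ≫ proj _ _ = _
    rw [Sigma.ι_map_assoc]
    by_cases hj : j = i.1
    · subst hj
      rw [ι_proj_self, ι_proj_self_assoc, Category.comp_id]
    · rw [ι_proj_ne _ hj, reassoc_of% (ι_proj_ne (fun i => (T i).X₁) hj), comp_zero, zero_comp]
  have hg : ∀ (a : (St x).obj (∐ fun i => (T i).X₂)) (i : S),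
      stalkEquiv hS₃ (((St x).map (sigmaCx T).g).hom a) i = ((St x).map (T i.1).g).hom (stalkEquiv hS₂ a i) := by
    intro a i
    rw [stalkEquiv_apply, stalkEquiv_apply, ← LinearMap.comp_apply, ← ModuleCat.hom_comp, ← Functor.map_comp,
      ← LinearMap.comp_apply, ← ModuleCat.hom_comp, ← Functor.map_comp]
    refine congrArg (fun φ => ((St x).map φ).hom a) (Sigma.hom_ext _ _ fun j => ?_)
    show Sigma.ι (fun i => (T i).X₂) j ≫ Limits.Sigma.map (fun i => (T i).g) ≫ proj _ _ = _
    rw [Sigma.ι_map_assoc]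
    by_cases hj : j = i.1
    · subst hj
      rw [ι_proj_self, ι_proj_self_assoc, Category.comp_id]
    · rw [ι_proj_ne _ hj, reassoc_of% (ι_proj_ne (fun i => (T i).X₂) hj), comp_zero, zero_comp]
  have hi : ∀ i, ((T i).map (St x)).ShortExact := fun i => (h i).map_of_exact (St x)
  refine { exact := ?_, mono_f := ?_, epi_g := ?_ }
  · rw [ShortComplex.moduleCat_exact_iff]
    intro b hb
    have hb' : ∀ i : S, ∃ a : (St x).obj (T i.1).X₁, ((St x).map (T i.1).f).hom a = stalkEquiv hS₂ b i := fun i =>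
      (ShortComplex.moduleCat_exact_iff _).1 (hi i.1).exact _ ((hg b i).symm.trans
        ((congrFun (congrArg (stalkEquiv hS₃) hb) i).trans (congrFun (map_zero (stalkEquiv hS₃)) i)))
    choose a ha using hb'
    refine ⟨(stalkEquiv hS₁).symm a, (stalkEquiv hS₂).injective (funext fun i => (hf _ i).trans ?_)⟩
    rw [LinearEquiv.apply_symm_apply]
    exact ha i
  · refine (ModuleCat.mono_iff_injective _).2 fun a a' e => (stalkEquiv hS₁).injective (funext fun i => ?_)
    refine (ModuleCat.mono_iff_injective _).1 (hi i.1).mono_f ?_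
    show ((St x).map (T i.1).f).hom _ = ((St x).map (T i.1).f).hom _
    rw [← hf, ← hf]
    exact congrArg (fun v => stalkEquiv hS₂ v i) e
  · refine (ModuleCat.epi_iff_surjective _).2 fun c => ?_
    choose b hb using fun i : S => (ModuleCat.epi_iff_surjective _).1 (hi i.1).epi_g (stalkEquiv hS₃ c i)
    refine ⟨(stalkEquiv hS₂).symm b, (stalkEquiv hS₃).injective (funext fun i => (hg _ i).trans ?_)⟩
    rw [LinearEquiv.apply_symm_apply]
    exact hb i

end CycK0Lib

end
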