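import Mathlib
import Groth.Agent.TameLib.OrdFrac
import Groth.Agent.CycDivLib.Ord
import Groth.Agent.CycPushLib.Closed

/-!
# Orders as differences of lengths of two colon ideals
-/

set_option autoImplicit false
set_option linter.style.haveILetI false
set_option linter.unusedSectionVars false

universe u

noncomputable section

namespace CycK0Lib

section Domain

variable {A : Type u} [CommRing A] [IsDomain A]

/-- Multiplication by `c` on the quotient by `(a : c)`. -/
theorem length_quot_colon (a c : A) :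
    Module.length A (A ⧸ Ideal.span {a}) =
      Module.length A (A ⧸ (Submodule.comap (LinearMap.mulLeft A c) (Ideal.span {a}))) + Module.length A (A ⧸ Ideal.span {a, c}) := by
  let f : (A ⧸ (Submodule.comap (LinearMap.mulLeft A c) (Ideal.span {a}))) →ₗ[A] (A ⧸ Ideal.span {a}) :=
    Submodule.mapQ (Submodule.comap (LinearMap.mulLeft A c) (Ideal.span {a})) (Ideal.span {a}) (LinearMap.mulLeft A c) le_rfl
  let g : (A ⧸ Ideal.span {a}) →ₗ[A] (A ⧸ Ideal.span {a, c}) :=
    Submodule.factor (Ideal.span_mono (Set.singleton_subset_iff.2 (Set.mem_insert a _)))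
  refine Module.length_eq_add_of_exact f g ?_ (Submodule.factor_surjective _) ?_
  · rw [← LinearMap.ker_eq_bot, LinearMap.ker_eq_bot']
    intro z hz
    obtain ⟨z, rfl⟩ := Submodule.mkQ_surjective _ z
    replace hz : Submodule.mkQ (Ideal.span {a}) (LinearMap.mulLeft A c z) = 0 := hz
    rw [Submodule.mkQ_apply, Submodule.Quotient.mk_eq_zero] at hz
    exact (Submodule.Quotient.mk_eq_zero _).2 hz
  · intro z
    obtain ⟨z, rfl⟩ := Submodule.mkQ_surjective _ z
    constructor
    · intro h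
      have h' : z ∈ Ideal.span {a, c} := (Submodule.Quotient.mk_eq_zero _).1 h
      obtain ⟨p, q, rfl⟩ := Ideal.mem_span_pair.1 h'
      refine ⟨Submodule.mkQ _ q, ?_⟩
      show Submodule.mkQ _ (c * q) = _
      rw [Submodule.mkQ_apply, Submodule.mkQ_apply, Submodule.Quotient.eq, Ideal.mem_span_singleton]
      exact ⟨-p, by ring⟩
    · rintro ⟨q, hq⟩
      obtain ⟨q, rfl⟩ := Submodule.mkQ_surjective _ q
      rw [← hq]
      exact (Submodule.Quotient.mk_eq_zero _).2 (Ideal.mem_span_pair.2 ⟨0, q, by simp [mul_comm]⟩)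

/-- Transport of lengths of cyclic modules along a surjection. -/
theorem length_quot_comap {R : Type u} [CommRing R] (π : R →+* A) (hπ : Function.Surjective π) (J : Ideal A) :
    Module.length R (R ⧸ J.comap π) = Module.length A (A ⧸ J) := by
  letI := π.toAlgebra
  have h1 := Module.length_eq_of_surjective (R := A) (S := R) (M := A ⧸ J) hπ
  rw [← h1]
  let f : R →ₗ[R] A ⧸ J := (Algebra.linearMap A (A ⧸ J)).restrictScalars R ∘ₗ Algebra.linearMap R A
  have hs : Function.Surjective f := (Ideal.Quotient.mk_surjective).comp hπ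
  have hk : J.comap π = LinearMap.ker f := by
    ext r
    exact (Ideal.Quotient.eq_zero_iff_mem (I := J)).symm
  rw [hk]
  exact (f.quotKerEquivOfSurjective hs).length_eq

end Domain

section Frac

variable {R K : Type u} [CommRing R] [Field K] (ρ : R →+* K)

/-- The ideal of elements whose multiple of `w` lies in the image. -/
def mulIdeal (w v : K) : Ideal R where
  carrier := {r | ∃ r' : R, ρ r * w = ρ r' * v}
  add_mem' := fun {a b} ⟨a', ha⟩ ⟨b', hb⟩ => ⟨a' + b', by rw [map_add, map_add, add_mul, ha, hb, add_mul]⟩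
  zero_mem' := ⟨0, by rw [map_zero, zero_mul, zero_mul]⟩
  smul_mem' := fun s a ⟨a', ha⟩ => ⟨s * a', by rw [smul_eq_mul, map_mul, map_mul, mul_assoc, ha, mul_assoc]⟩

theorem mem_mulIdeal (w v : K) (r : R) : r ∈ mulIdeal ρ w v ↔ ∃ r' : R, ρ r * w = ρ r' * v := Iff.rfl

/-- The key length computation. -/
theorem length_mulIdeal_sub [IsNoetherianRing R] [Algebra (R ⧸ RingHom.ker ρ) K] [IsFractionRing (R ⧸ RingHom.ker ρ) K]
    [Ring.KrullDimLE 1 (R ⧸ RingHom.ker ρ)] [IsDomain (R ⧸ RingHom.ker ρ)]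
    (hρ : ∀ r, algebraMap (R ⧸ RingHom.ker ρ) K (Ideal.Quotient.mk _ r) = ρ r) {φ : K} (hφ : φ ≠ 0) :
    Module.length R (R ⧸ mulIdeal ρ φ⁻¹ 1) ≠ ⊤ ∧ Module.length R (R ⧸ mulIdeal ρ 1 φ⁻¹) ≠ ⊤ ∧
      ((Module.length R (R ⧸ mulIdeal ρ φ⁻¹ 1)).toNat : ℤ) - (Module.length R (R ⧸ mulIdeal ρ 1 φ⁻¹)).toNat =
        CycAlg.ordFrac (R ⧸ RingHom.ker ρ) K φ := by
  let A := R ⧸ RingHom.ker ρ
  let π : R →+* A := Ideal.Quotient.mk _
  obtain ⟨a, c, hc, e⟩ := IsFractionRing.div_surjective (A := A) φ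
  have hc0 : c ≠ 0 := nonZeroDivisors.ne_zero hc
  have ha0 : a ≠ 0 := fun h => hφ (by rw [← e, h, map_zero, zero_div])
  have hinj : Function.Injective (algebraMap A K) := IsFractionRing.injective A K
  have hcK : algebraMap A K c ≠ 0 := fun h => hc0 (hinj (h.trans (map_zero _).symm))
  have haK : algebraMap A K a ≠ 0 := fun h => ha0 (hinj (h.trans (map_zero _).symm))
  have hφ' : φ⁻¹ = algebraMap A K c / algebraMap A K a := by rw [← e, inv_div]
  have e1 : mulIdeal ρ φ⁻¹ 1 = Ideal.comap π (Submodule.comap (LinearMap.mulLeft A c) (Ideal.span {a})) := by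
    ext r
    rw [mem_mulIdeal, Ideal.mem_comap, Submodule.mem_comap, LinearMap.mulLeft_apply, Ideal.mem_span_singleton]
    constructor
    · rintro ⟨r', h⟩
      refine ⟨π r', hinj ?_⟩
      rw [map_mul, map_mul, hρ, hρ]
      rw [hφ', mul_one, ← mul_div_assoc, div_eq_iff haK] at h
      linear_combination h
    · rintro ⟨q, h⟩
      obtain ⟨r', rfl⟩ := Ideal.Quotient.mk_surjective q
      refine ⟨r', ?_⟩
      have h' := congrArg (algebraMap A K) h
      rw [map_mul, map_mul, hρ, hρ] at h'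
      rw [hφ', mul_one, ← mul_div_assoc, div_eq_iff haK]
      linear_combination h'
  have e2 : mulIdeal ρ 1 φ⁻¹ = Ideal.comap π (Submodule.comap (LinearMap.mulLeft A a) (Ideal.span {c})) := by
    ext r
    rw [mem_mulIdeal, Ideal.mem_comap, Submodule.mem_comap, LinearMap.mulLeft_apply, Ideal.mem_span_singleton]
    constructor
    · rintro ⟨r', h⟩
      refine ⟨π r', hinj ?_⟩
      rw [map_mul, map_mul, hρ, hρ]
      rw [hφ', mul_one, ← mul_div_assoc, eq_div_iff haK] at h
      linear_combination h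
    · rintro ⟨q, h⟩
      obtain ⟨r', rfl⟩ := Ideal.Quotient.mk_surjective q
      refine ⟨r', ?_⟩
      have h' := congrArg (algebraMap A K) h
      rw [map_mul, map_mul, hρ, hρ] at h'
      rw [hφ', mul_one, ← mul_div_assoc, eq_div_iff haK]
      linear_combination h'
  have la := length_quot_colon a c
  have lc := length_quot_colon c a
  rw [Ideal.span_pair_comm] at lc
  have fa : Ring.ord A a ≠ ⊤ := Ring.ord_ne_top (mem_nonZeroDivisors_of_ne_zero ha0)
  have fc : Ring.ord A c ≠ ⊤ := Ring.ord_ne_top (mem_nonZeroDivisors_of_ne_zero hc0)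
  rw [Ring.ord, la] at fa
  rw [Ring.ord, lc] at fc
  rw [Ne, ENat.add_eq_top, not_or] at fa fc
  rw [e1, e2, length_quot_comap π Ideal.Quotient.mk_surjective, length_quot_comap π Ideal.Quotient.mk_surjective]
  refine ⟨fa.1, fc.1, ?_⟩
  have oa := TameLib.ordFrac_algebraMap (R := A) (K := K) ha0
  have oc := TameLib.ordFrac_algebraMap (R := A) (K := K) hc0
  rw [Ring.ord, la, ENat.toNat_add fa.1 fa.2] at oa
  rw [Ring.ord, lc, ENat.toNat_add fc.1 fc.2] at oc
  rw [← e, div_eq_mul_inv, TameLib.ordFrac_mul haK (inv_ne_zero hcK), TameLib.ordFrac_inv hcK, oa, oc]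
  push_cast
  ring

end Frac

end CycK0Lib

end
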