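import Groth.Agent.CycK0Lib.Ev
import Groth.Agent.CycK0Lib.OrdLen

/-!
# Two lines on a reduced closure differ by the divisor of their comparison
-/

set_option autoImplicit false
set_option linter.style.haveILetI false
set_option linter.unusedSectionVars false

universe u v

open CategoryTheory CategoryTheory.Limits AlgebraicGeometry TopologicalSpace Opposite
open IsLocalRing (maximalIdeal)

noncomputable section

namespace CycK0Lib

open DevissLib (St)
open KFlatLib (skyObj)

variable {X : Scheme.{u}} {δ : X → ℤ} {k : ℤ}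

/-- `M` and `N` contain a common submodule, the difference of the two quotients having cycle `g`. -/
def Twisted (δ : X → ℤ) (k : ℤ) (M N : X.Modules) (g : X → ℤ) : Prop :=
  ∃ (K : X.Modules) (p : K ⟶ M) (q : K ⟶ N), Mono p ∧ Mono q ∧ P (fun x => δ x ≤ k + 1) K ∧
    P (fun x => δ x ≤ k) (cokernel p) ∧ P (fun x => δ x ≤ k) (cokernel q) ∧
    ∀ y, δ y = k → Cyc.sheafFun δ k (cokernel p) y - Cyc.sheafFun δ k (cokernel q) y = g y

/-- The stalk of a cokernel with cyclic target. -/
theorem length_coker {K M : X.Modules} (p : K ⟶ M) {y : X} (g : (St y).obj M)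
    (hg : ∀ m, ∃ r : X.presheaf.stalk y, r • g = m) (J : Ideal (X.presheaf.stalk y))
    (hJ : ∀ r : X.presheaf.stalk y, r • g ∈ LinearMap.range ((St y).map p).hom ↔ r ∈ J) :
    Module.length (X.presheaf.stalk y) ((St y).obj (cokernel p)) =
      Module.length (X.presheaf.stalk y) (X.presheaf.stalk y ⧸ J) := by
  let π := ((St y).map (cokernel.π p)).hom
  let f : X.presheaf.stalk y →ₗ[X.presheaf.stalk y] (St y).obj (cokernel p) :=
    π ∘ₗ LinearMap.toSpanSingleton _ _ g
  have hπ : Function.Surjective π := (ModuleCat.epi_iff_surjective _).mp inferInstance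
  have hex : Function.Exact ((St y).map p).hom π := (ShortComplex.ShortExact.moduleCat_exact_iff_function_exact _).1
    ((ShortComplex.exact_of_g_is_cokernel (ShortComplex.mk p (cokernel.π p) (cokernel.condition p))
      (cokernelIsCokernel p)).map (St y))
  have hf : Function.Surjective f := fun c => by
    obtain ⟨m, rfl⟩ := hπ c
    obtain ⟨r, rfl⟩ := hg m
    exact ⟨r, rfl⟩
  have hk : LinearMap.ker f = J := Submodule.ext fun r => by
    rw [LinearMap.mem_ker]
    exact (hex (r • g)).trans (LinearMap.mem_range.symm.trans (hJ r))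
  rw [← hk]
  exact (LinearMap.quotKerEquivOfSurjective f hf).length_eq.symm

/-- The construction: a module embedded in the skyscraper, cyclic on every stalk, against the
structure module of the closure. -/
theorem twisted_of_gen (hX : Cyc.IsSetup X δ) {ξ : X} (hξ : δ ξ = k + 1) {M : X.Modules} (hM : Coh.IsCoh M)
    (a : M ⟶ skyObj ξ (kmod ξ)) [Mono a] (gfun : X → ℤ) (hg0 : ∀ y, ¬ (ξ ⤳ y ∧ δ y + 1 = δ ξ) → gfun y = 0)
    (hgen : ∀ (y : X) (h : ξ ⤳ y), ∃ g : (St y).obj M, val a h g ≠ 0 ∧
      (∀ m, ∃ r : X.presheaf.stalk y, r • g = m) ∧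
      (δ y + 1 = δ ξ → gfun y = Cyc.ordAt y ξ h (val a h g)⁻¹)) :
    Twisted δ k M (N ξ) gfun := by
  classical
  haveI := hX.1
  let ψ : M ⊞ N ξ ⟶ skyObj ξ (kmod ξ) := biprod.fst ≫ a - biprod.snd ≫ bN ξ
  let p : kernel ψ ⟶ M := kernel.ι ψ ≫ biprod.fst
  let q : kernel ψ ⟶ N ξ := kernel.ι ψ ≫ biprod.snd
  have hψ : ∀ (y : X) w, ((St y).map ψ).hom w = ((St y).map a).hom (((St y).map biprod.fst).hom w) -
      ((St y).map (bN ξ)).hom (((St y).map biprod.snd).hom w) := fun y w => by
    simp only [ψ, Functor.map_sub, Functor.map_comp, ModuleCat.hom_sub, LinearMap.sub_apply,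
      ModuleCat.hom_comp, LinearMap.comp_apply]
  have hrel : ∀ (y : X) c, ((St y).map a).hom (((St y).map p).hom c) = ((St y).map (bN ξ)).hom (((St y).map q).hom c) := by
    intro y c
    have h1 := hψ y (((St y).map (kernel.ι ψ)).hom c)
    rw [← LinearMap.comp_apply, ← ModuleCat.hom_comp, ← Functor.map_comp, kernel.condition, Functor.map_zero,
      ModuleCat.hom_zero, LinearMap.zero_apply, eq_comm, sub_eq_zero] at h1
    simp only [p, q, Functor.map_comp, ModuleCat.hom_comp, LinearMap.comp_apply]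
    exact h1
  have hsur : ∀ (y : X) m n, ((St y).map a).hom m = ((St y).map (bN ξ)).hom n →
      ∃ c, ((St y).map p).hom c = m ∧ ((St y).map q).hom c = n := fun y m n hmn => by
    let w := ((St y).map (biprod.inl : M ⟶ M ⊞ N ξ)).hom m + ((St y).map (biprod.inr : N ξ ⟶ M ⊞ N ξ)).hom n
    have hw1 : ((St y).map biprod.fst).hom w = m := by
      simp only [w, map_add, ← LinearMap.comp_apply, ← ModuleCat.hom_comp, ← Functor.map_comp, biprod.inl_fst,
        biprod.inr_fst, CategoryTheory.Functor.map_id, Functor.map_zero, ModuleCat.hom_id, ModuleCat.hom_zero,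
        LinearMap.id_apply, LinearMap.zero_apply, add_zero]
    have hw2 : ((St y).map biprod.snd).hom w = n := by
      simp only [w, map_add, ← LinearMap.comp_apply, ← ModuleCat.hom_comp, ← Functor.map_comp, biprod.inl_snd,
        biprod.inr_snd, CategoryTheory.Functor.map_id, Functor.map_zero, ModuleCat.hom_id, ModuleCat.hom_zero,
        LinearMap.id_apply, LinearMap.zero_apply, zero_add]
    obtain ⟨c, hc⟩ := map_kernel_exact ψ y (a := w) (by rw [hψ, hw1, hw2, hmn, sub_self])
    refine ⟨c, ?_, ?_⟩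
    · simp only [p, Functor.map_comp, ModuleCat.hom_comp, LinearMap.comp_apply, hc, hw1]
    · simp only [q, Functor.map_comp, ModuleCat.hom_comp, LinearMap.comp_apply, hc, hw2]
  have ainj : ∀ y, Function.Injective ((St y).map a).hom := fun y => (ModuleCat.mono_iff_injective _).mp inferInstance
  have binj : ∀ y, Function.Injective ((St y).map (bN ξ)).hom := fun y => (ModuleCat.mono_iff_injective _).mp inferInstance
  have hext : ∀ (y : X) c, ((St y).map p).hom c = 0 → ((St y).map q).hom c = 0 → c = 0 := fun y c h1 h2 => by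
    refine kernel_ι_injective ψ y ((DevissLib.biprod_ext y _ ?_ ?_).trans (map_zero _).symm)
    · rw [← LinearMap.comp_apply, ← ModuleCat.hom_comp, ← Functor.map_comp]; exact h1
    · rw [← LinearMap.comp_apply, ← ModuleCat.hom_comp, ← Functor.map_comp]; exact h2
  have hp : Mono p := mono_of_stalks p fun y => (injective_iff_map_eq_zero _).2 fun c hc =>
    hext y c hc (binj y (by rw [← hrel, hc, map_zero, map_zero]))
  have hq : Mono q := mono_of_stalks q fun y => (injective_iff_map_eq_zero _).2 fun c hc =>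
    hext y c (ainj y (by rw [hrel, hc, map_zero, map_zero])) hc
  have hPN : P (fun x => δ x ≤ k + 1) (N ξ) := P.mk (isCoh_N ξ) fun x hx => by
    have h := specializes_iff_mem_closure.2 (support_le_closure (bN ξ) hx)
    by_cases e : ξ = x
    · subst e; exact hξ.le
    · have := (hX.2.2 ξ x h e).1; omega
  have hPM : P (fun x => δ x ≤ k + 1) M := P.mk hM fun x hx => by
    have h := specializes_iff_mem_closure.2 (support_le_closure a hx)
    by_cases e : ξ = x
    · subst e; exact hξ.le
    · have := (hX.2.2 ξ x h e).1; omega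
  have hK : P (fun x => δ x ≤ k + 1) (kernel ψ) := (hPM.biprod hPN).kernel ψ (isQCoh_sky_kmod ξ)
  -- the colon ideals
  have key : ∀ (y : X) (h : ξ ⤳ y) (g : (St y).obj M), (∀ m, ∃ r : X.presheaf.stalk y, r • g = m) →
      Module.length (X.presheaf.stalk y) ((St y).obj (cokernel p)) =
        Module.length (X.presheaf.stalk y) (X.presheaf.stalk y ⧸ mulIdeal (Cyc.specMap y ξ h) (val a h g) 1) ∧
      Module.length (X.presheaf.stalk y) ((St y).obj (cokernel q)) =
        Module.length (X.presheaf.stalk y) (X.presheaf.stalk y ⧸ mulIdeal (Cyc.specMap y ξ h) 1 (val a h g)) := by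
    intro y h g hg
    let u : (St y).obj (N ξ) := (N ξ).presheaf.germ ⊤ y trivial (uSec ξ ⊤)
    have hu : val (bN ξ) h u = 1 := val_uSec h _
    have hgu : ∀ n, ∃ r : X.presheaf.stalk y, r • u = n := exists_smul_uSec (U := ⊤) trivial
    refine ⟨length_coker p g hg _ fun r => ?_, length_coker q u hgu _ fun r => ?_⟩
    · rw [LinearMap.mem_range, mem_mulIdeal]
      constructor
      · rintro ⟨c, hc⟩
        obtain ⟨r', hr'⟩ := hgu (((St y).map q).hom c)
        refine ⟨r', ?_⟩
        have h1 := (map_eq_iff_val a h (bN ξ) _ _).1 (hrel y c)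
        rw [hc, ← hr', val_smul, val_smul, hu] at h1
        exact h1
      · rintro ⟨r', hr'⟩
        obtain ⟨c, hc, -⟩ := hsur y (r • g) (r' • u) ((map_eq_iff_val a h (bN ξ) _ _).2
          (by rw [val_smul, val_smul, hu]; exact hr'))
        exact ⟨c, hc⟩
    · rw [LinearMap.mem_range, mem_mulIdeal]
      constructor
      · rintro ⟨c, hc⟩
        obtain ⟨r', hr'⟩ := hg (((St y).map p).hom c)
        refine ⟨r', ?_⟩
        have h1 := (map_eq_iff_val a h (bN ξ) _ _).1 (hrel y c)
        rw [hc, ← hr', val_smul, val_smul, hu] at h1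
        exact h1.symm
      · rintro ⟨r', hr'⟩
        obtain ⟨c, -, hc⟩ := hsur y (r' • g) (r • u) ((map_eq_iff_val a h (bN ξ) _ _).2
          (by rw [val_smul, val_smul, hu]; exact hr'.symm))
        exact ⟨c, hc⟩
  have hcξ : ξ ∉ CohB1.support (cokernel p) ∧ ξ ∉ CohB1.support (cokernel q) := by
    obtain ⟨g, hw, hg, -⟩ := hgen ξ (specializes_refl ξ)
    obtain ⟨h1, h2⟩ := key ξ (specializes_refl ξ) g hg
    have hsurj : Function.Surjective (Cyc.specMap ξ ξ (specializes_refl ξ)) := fun z => by
      obtain ⟨r, rfl⟩ := X.residue_surjective ξ z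
      refine ⟨r, congrArg (X.residue ξ) ?_⟩
      exact congr($(X.presheaf.stalkSpecializes_refl ξ) r)
    have top : ∀ w v : X.residueField ξ, v ≠ 0 → mulIdeal (Cyc.specMap ξ ξ (specializes_refl ξ)) w v = ⊤ :=
      fun w v hv => (Ideal.eq_top_iff_one _).2 (by
        obtain ⟨r', hr'⟩ := hsurj (w / v)
        refine ⟨r', ?_⟩
        rw [map_one, one_mul, hr', div_mul_cancel₀ _ hv])
    rw [top _ _ one_ne_zero] at h1
    rw [top _ _ hw] at h2
    haveI : Subsingleton (X.presheaf.stalk ξ ⧸ (⊤ : Ideal (X.presheaf.stalk ξ))) := Submodule.Quotient.subsingleton_iff.2 rfl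
    have hz : Module.length (X.presheaf.stalk ξ) (X.presheaf.stalk ξ ⧸ (⊤ : Ideal (X.presheaf.stalk ξ))) = 0 := Module.length_eq_zero
    rw [hz, Module.length_eq_zero_iff] at h1 h2
    exact ⟨fun h => h h1, fun h => h h2⟩
  have hdrop : ∀ (C : X.Modules) (f : M ⊞ N ξ ⟶ C) [Epi f], ξ ∉ CohB1.support C →
      ∀ x ∈ CohB1.support C, δ x ≤ k := fun C f _ hC x hx => by
    have hsupp : x ∈ closure ({ξ} : Set X) := by
      by_contra hne
      haveI := subsingleton_N (ξ := ξ) (y := x) fun h => hne (specializes_iff_mem_closure.1 h)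
      haveI : Subsingleton ((St x).obj M) := not_not.mp fun hm => hne (support_le_closure a hm)
      haveI : Subsingleton ((St x).obj (M ⊞ N ξ)) := ⟨fun c d => by
        rw [← sub_eq_zero]
        exact DevissLib.biprod_ext x _ (Subsingleton.elim _ _) (Subsingleton.elim _ _)⟩
      exact DevissLib.support_epi f hx this
    have h := (hX.2.2 ξ x (specializes_iff_mem_closure.2 hsupp) fun e => hC (e ▸ hx)).1
    omega
  haveI : Coh.IsQCoh (kernel ψ) := hK.coh.1
  have hCp : P (fun x => δ x ≤ k) (cokernel p) := P.mk (hPM.cokernel (D := fun x => δ x ≤ k + 1) p hK.coh.1).coh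
    (hdrop _ (biprod.fst ≫ cokernel.π p) hcξ.1)
  have hCq : P (fun x => δ x ≤ k) (cokernel q) := P.mk (hPN.cokernel (D := fun x => δ x ≤ k + 1) q hK.coh.1).coh
    (hdrop _ (biprod.snd ≫ cokernel.π q) hcξ.2)
  refine ⟨kernel ψ, p, q, hp, hq, hK, hCp, hCq, fun y hy => ?_⟩
  rw [Cyc.sheafFun, Cyc.sheafFun, if_pos hy, if_pos hy]
  by_cases h : ξ ⤳ y
  · have hd : δ y + 1 = δ ξ := by omega
    obtain ⟨g, hw, hg, hgy⟩ := hgen y h
    obtain ⟨h1, h2⟩ := key y h g hg
    haveI : Ring.KrullDimLE 1 (Cyc.LocQuot y ξ h) :=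
      Ring.krullDimLE_iff.2 ((CycDivLib.dim_locQuot h).le.trans (CycPushLib.dimBetween_le_one_of_drop hX h hd))
    have hmain := length_mulIdeal_sub (Cyc.specMap y ξ h) (fun r => rfl) (inv_ne_zero hw)
    rw [inv_inv] at hmain
    show ((Module.length (X.presheaf.stalk y) ((St y).obj (cokernel p))).toNat : ℤ) -
      (Module.length (X.presheaf.stalk y) ((St y).obj (cokernel q))).toNat = _
    rw [h1, h2, hgy hd]
    exact hmain.2.2
  · rw [hg0 y fun hh => h hh.1]
    have hz : ∀ (C : X.Modules), P (fun x => δ x ≤ k) C → ∀ (f : M ⊞ N ξ ⟶ C), Epi f →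
        Module.length (X.presheaf.stalk y) ((St y).obj C) = 0 := fun C _ f _ => by
      refine length_stalk_eq_zero fun hc => DevissLib.support_epi f hc ?_
      haveI := subsingleton_N (ξ := ξ) (y := y) h
      haveI : Subsingleton ((St y).obj M) := not_not.mp fun hm =>
        h (specializes_iff_mem_closure.2 (support_le_closure a hm))
      exact ⟨fun c d => by
        rw [← sub_eq_zero]
        exact DevissLib.biprod_ext y _ (Subsingleton.elim _ _) (Subsingleton.elim _ _)⟩
    show ((Module.length (X.presheaf.stalk y) ((St y).obj (cokernel p))).toNat : ℤ) -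
      (Module.length (X.presheaf.stalk y) ((St y).obj (cokernel q))).toNat = _
    rw [hz _ hCp (biprod.fst ≫ cokernel.π p) inferInstance, hz _ hCq (biprod.snd ≫ cokernel.π q) inferInstance]
    simp

end CycK0Lib

end
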