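import Groth.Agent.CycK0Lib.Semisimple
import Groth.Agent.CycLimLib.Sheaf
import Groth.Agent.NagataFG.Closure
import Groth.Prelude.Def_ChowOps

/-!
# The Grothendieck group of the top layer is the group of cycles
-/

set_option autoImplicit false
set_option linter.style.haveILetI false
set_option linter.unusedSectionVars false

universe u v

open CategoryTheory CategoryTheory.Limits AlgebraicGeometry TopologicalSpace Opposite
open IsLocalRing (maximalIdeal)
open scoped ZeroObject

noncomputable section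

namespace CycK0Lib

open DevissLib (St)

variable {X : Scheme.{u}} [IsLocallyNoetherian X] {D D' : X → Prop}

theorem length_stalk_eq_zero {F : X.Modules} {x : X} (hx : x ∉ CohB1.support F) :
    Module.length (X.presheaf.stalk x) ((St x).obj F) = 0 := by
  haveI : Subsingleton ((St x).obj F) := not_not.mp hx
  exact Module.length_eq_zero

open Classical in
/-- The lengths at the points outside the lower level. -/
def lenFun (D' : X → Prop) (F : X.Modules) : X → ℤ := fun x =>
  if D' x then 0 else ((Module.length (X.presheaf.stalk x) ((St x).obj F)).toNat : ℤ)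

theorem lenFun_kills (F : X.Modules) (hF : P D' F) : lenFun D' F = 0 := funext fun x => by
  unfold lenFun
  split_ifs with h
  · rfl
  · rw [length_stalk_eq_zero fun hx => h (hF.supp hx)]
    rfl

theorem Levels.addOn_lenFun (L : Levels D D') : AddOn D (lenFun D') := ⟨fun S hS h₁ h₂ h₃ => funext fun x => by
  show lenFun D' S.X₂ x = lenFun D' S.X₁ x + lenFun D' S.X₃ x
  unfold lenFun
  split_ifs with h
  · rfl
  · have e := Module.length_eq_add_of_exact ((St x).map S.f).hom ((St x).map S.g).hom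
      ((ModuleCat.mono_iff_injective _).mp (hS.map_of_exact (St x)).mono_f)
      ((ModuleCat.epi_iff_surjective _).mp (hS.map_of_exact (St x)).epi_g)
      ((ShortComplex.ShortExact.moduleCat_exact_iff_function_exact (S.map (St x))).mp
        (hS.map_of_exact (St x)).exact)
    rw [e, ENat.toNat_add (L.length_ne_top h₁ h) (L.length_ne_top h₃ h), Nat.cast_add]⟩

theorem AddOn.prod {A B : Type*} [AddCommGroup A] [AddCommGroup B] {φ : X.Modules → A} {ψ : X.Modules → B}
    (h : AddOn D φ) (h' : AddOn D ψ) : AddOn D fun F => (φ F, ψ F) :=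
  ⟨fun S hS a b c => Prod.ext (h.add S hS a b c) (h'.add S hS a b c)⟩

/-- Modulo the lower level, a module is determined by its lengths at the top points. -/
theorem Levels.eq_of_lenFun (L : Levels D D') {A : Type (u + 1)} [AddCommGroup A] {φ : X.Modules → A}
    (h : AddOn D φ) (hφ : ∀ F, P D' F → φ F = 0) {F G : X.Modules} (hF : P D F) (hG : P D G)
    (e : lenFun D' F = lenFun D' G) : φ F = φ G := by
  obtain ⟨QF, hQF, kF, HF⟩ := exists_semisimple L hF
  obtain ⟨QG, hQG, kG, HG⟩ := exists_semisimple L hG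
  have hpair := AddOn.prod h L.addOn_lenFun
  have hkill : ∀ H, P D' H → (φ H, lenFun D' H) = 0 := fun H hH =>
    Prod.ext (hφ H hH) (lenFun_kills H hH)
  have e₁ := HF (fun H => (φ H, lenFun D' H)) hpair hkill
  have e₂ := HG (fun H => (φ H, lenFun D' H)) hpair hkill
  rw [show φ F = φ QF from congrArg Prod.fst e₁, show φ G = φ QG from congrArg Prod.fst e₂]
  refine L.eq_of_stalkIso h hφ hQF hQG fun x hx => ?_
  have e₃ : lenFun D' QF x = lenFun D' QG x :=
    (congrFun (congrArg Prod.snd e₁) x).symm.trans ((congrFun e x).trans (congrFun (congrArg Prod.snd e₂) x))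
  simp only [lenFun, if_neg hx, Nat.cast_inj] at e₃
  have e₄ := congrArg (fun n : ℕ => (n : ℕ∞)) e₃
  simp only [ENat.coe_toNat (L.length_ne_top hQF hx), ENat.coe_toNat (L.length_ne_top hQG hx)] at e₄
  obtain ⟨θ⟩ := nonempty_equiv_of_killed (kF x hx) (kG x hx) e₄ (L.length_ne_top hQF hx)
  exact ⟨θ.toModuleIso⟩

/-- Every element of the Grothendieck group is a difference of two classes. -/
theorem exists_diff (a : KZero.K0sub (P D)) :
    ∃ F G : X.Modules, P D F ∧ P D G ∧ a = KZero.clSub (P D) F - KZero.clSub (P D) G := by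
  have hz : P D (0 : X.Modules) := P_zero (Limits.isZero_zero _)
  induction a using induction_clSub with
  | h0 => exact ⟨0, 0, hz, hz, by abel⟩
  | hcl F hF => exact ⟨F, 0, hF, hz, by rw [addOn_clSub.zero (Limits.isZero_zero _), sub_zero]⟩
  | hneg a h =>
    obtain ⟨F, G, hF, hG, rfl⟩ := h
    exact ⟨G, F, hG, hF, by abel⟩
  | hadd a b ha hb =>
    obtain ⟨F, G, hF, hG, rfl⟩ := ha
    obtain ⟨F', G', hF', hG', rfl⟩ := hb
    refine ⟨F ⊞ F', G ⊞ G', hF.biprod hF', hG.biprod hG', ?_⟩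
    rw [addOn_clSub.biprod hF hF', addOn_clSub.biprod hG hG']
    abel

section Delta

variable (δ : X → ℤ) (k : ℤ)

theorem cohLe_eq : Cyc.CohLe δ k = P (fun x => δ x ≤ k) := rfl

variable {δ k}

theorem levels_delta (hδ : Cyc.IsDimFun X δ) : Levels (fun x => δ x ≤ k) (fun x => δ x ≤ k - 1) where
  le _ h := by omega
  max x y hx hy h := by
    by_contra hne
    have := (hδ y x h hne).1
    omega

theorem lenFun_delta {F : X.Modules} (hF : P (fun x => δ x ≤ k) F) :
    lenFun (fun x => δ x ≤ k - 1) F = Cyc.sheafFun δ k F := funext fun x => by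
  unfold lenFun Cyc.sheafFun
  by_cases h : δ x = k
  · rw [if_neg (by omega), if_pos h]
    rfl
  · rw [if_neg h]
    split_ifs with h'
    · rfl
    · rw [length_stalk_eq_zero fun hx => ?_]
      · rfl
      · have := hF.supp hx
        omega

theorem addOn_toK0CohQuot (δ : X → ℤ) (a b : ℤ) :
    AddOn (fun x => δ x ≤ a) (Cyc.toK0CohQuot δ a b) := ⟨fun S hS h₁ h₂ h₃ => by
  unfold Cyc.toK0CohQuot
  rw [← QuotientAddGroup.mk_add]
  exact congrArg QuotientAddGroup.mk ((addOn_clSub (D := fun x => δ x ≤ a)).add S hS h₁ h₂ h₃)⟩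

theorem toK0CohQuot_kills (δ : X → ℤ) (a b : ℤ) (F : X.Modules) (hF : P (fun x => δ x ≤ b) F) :
    Cyc.toK0CohQuot δ a b F = 0 :=
  (QuotientAddGroup.eq_zero_iff _).2 (AddSubgroup.subset_closure ⟨F, hF, rfl⟩)

theorem toK0CohQuot_eq_of_sheafFun (hX : Cyc.IsSetup X δ) {F G : X.Modules} (hF : P (fun x => δ x ≤ k) F)
    (hG : P (fun x => δ x ≤ k) G) (e : Cyc.sheafFun δ k F = Cyc.sheafFun δ k G) :
    Cyc.toK0CohQuot δ k (k - 1) F = Cyc.toK0CohQuot δ k (k - 1) G :=
  (levels_delta hX.2.2).eq_of_lenFun (addOn_toK0CohQuot δ k (k - 1)) (toK0CohQuot_kills δ k (k - 1)) hF hG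
    (by rw [lenFun_delta hF, lenFun_delta hG, e])

theorem addOn_sheafFun (hX : Cyc.IsSetup X δ) : AddOn (fun x => δ x ≤ k) (Cyc.sheafFun δ k) := ⟨fun S hS h₁ h₂ h₃ => by
  rw [← lenFun_delta h₁, ← lenFun_delta h₂, ← lenFun_delta h₃]
  exact (levels_delta hX.2.2).addOn_lenFun.add S hS h₁ h₂ h₃⟩

theorem sheafFun_kills {F : X.Modules} (hF : P (fun x => δ x ≤ k - 1) F) : Cyc.sheafFun δ k F = 0 := funext fun x => by
  unfold Cyc.sheafFun
  split_ifs with h
  · show ((Module.length (X.presheaf.stalk x) ((St x).obj F)).toNat : ℤ) = 0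
    rw [length_stalk_eq_zero fun hx => by have := hF.supp hx; omega]
    rfl
  · rfl

theorem exists_cycle_sheafFun (hX : Cyc.IsSetup X δ) {F : X.Modules} (hF : P (fun x => δ x ≤ k) F) :
    ∃ α : AlgebraicCycle X ℤ, α ∈ Cyc.Zk X δ k ∧ ⇑α = Cyc.sheafFun δ k F := by
  haveI : Coh.IsQCoh F := hF.1.1
  refine ⟨{ toFun := Cyc.sheafFun δ k F
            supportWithinDomain' := by simp
            supportLocallyFiniteWithinDomain' := fun x _ => ?_ }, fun x hx => if_neg hx, rfl⟩
  obtain ⟨U, hU, hxU⟩ := QCohLib.exists_affine_nhd x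
  refine ⟨U, U.isOpen.mem_nhds hxU, (AssPointLib.finite_assPoints hF.1.2 U hU.isCompact).subset ?_⟩
  rintro y ⟨hyU, hy⟩
  have hy' : δ y = k ∧ y ∈ CohB1.support F := by
    rw [Function.mem_support] at hy
    unfold Cyc.sheafFun at hy
    split_ifs at hy with h
    swap
    · exact absurd rfl hy
    refine ⟨h, fun hs => hy ?_⟩
    show ((Module.length (X.presheaf.stalk y) ((St y).obj F)).toNat : ℤ) = 0
    rw [length_stalk_eq_zero fun h' => h' hs]
    rfl
  exact ⟨hyU, AssPointLib.weak_of_maximal hy'.2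
    ((levels_delta (k := k) hX.2.2).top_max hF (x := y) (by omega))⟩

omit [IsLocallyNoetherian X] in
theorem range_ptIdeal (ζ : X) : Set.range (IntMult.ptIdeal ζ).subschemeι = closure {ζ} := by
  rw [Scheme.IdealSheafData.range_subschemeι, IntMult.ptIdeal, Scheme.IdealSheafData.coe_support_vanishingIdeal]
  rfl

/-- The cycle of the structure sheaf of the closure of a point. -/
theorem closure_P (hX : Cyc.IsSetup X δ) {ζ : X} (hζ : δ ζ ≤ k) :
    P (fun x => δ x ≤ k) (Cyc.closureStructureSheaf ζ) := by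
  refine P.mk (QCohLib.isCoh_push_finite _ _ (DevissLib.isCoh_structureModule _)) fun x hx => ?_
  have h : x ∈ Set.range (IntMult.ptIdeal ζ).subschemeι := DevissLib.support_push_subset _ _ hx
  rw [range_ptIdeal] at h
  by_cases e : ζ = x
  · rw [← e]; exact hζ
  · exact ((hX.2.2 ζ x (specializes_iff_mem_closure.2 h) e).1.le).trans hζ

omit [IsLocallyNoetherian X] in
theorem closure_support (ζ : X) : CohB1.support (Cyc.closureStructureSheaf ζ) ⊆ closure {ζ} := fun x hx => by
  have h : x ∈ Set.range (IntMult.ptIdeal ζ).subschemeι := DevissLib.support_push_subset _ _ hx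
  rwa [range_ptIdeal] at h

omit [IsLocallyNoetherian X] in
theorem closure_length (ζ : X) :
    Module.length (X.presheaf.stalk ζ) ((St ζ).obj (Cyc.closureStructureSheaf ζ)) = 1 := by
  haveI : IsIntegral (IntMult.ptIdeal ζ).subscheme := NagataFG.isIntegral_closure ζ
  have hgen : (IntMult.ptIdeal ζ).subschemeι (genericPoint (IntMult.ptIdeal ζ).subscheme) = ζ := by
    obtain ⟨z, hz⟩ : ζ ∈ Set.range (IntMult.ptIdeal ζ).subschemeι := NagataFG.mem_range ζ
    have h1 := (genericPoint_specializes z).map (IntMult.ptIdeal ζ).subschemeι.continuous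
    rw [hz] at h1
    have h2 : (IntMult.ptIdeal ζ).subschemeι (genericPoint (IntMult.ptIdeal ζ).subscheme) ∈
        Set.range (IntMult.ptIdeal ζ).subschemeι := ⟨_, rfl⟩
    rw [range_ptIdeal] at h2
    exact (h1.antisymm (specializes_iff_mem_closure.2 h2)).eq
  have h := CycLimLib.length_stalk_push_structure (IntMult.ptIdeal ζ).subschemeι
    (genericPoint (IntMult.ptIdeal ζ).subscheme)
  rw [hgen] at h
  refine h.trans ?_
  letI : Field ((IntMult.ptIdeal ζ).subscheme.presheaf.stalk (genericPoint (IntMult.ptIdeal ζ).subscheme)) :=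
    inferInstanceAs (Field (IntMult.ptIdeal ζ).subscheme.functionField)
  exact Module.length_eq_one_iff.2 inferInstance

theorem sheafFun_closure {ζ x : X} (hx : δ x = k) (hX : Cyc.IsSetup X δ) (hζ : δ ζ = k) :
    Module.length (X.presheaf.stalk x) ((St x).obj (Cyc.closureStructureSheaf ζ)) =
      @ite ℕ∞ (ζ = x) (Classical.propDecidable _) 1 0 := by
  split_ifs with e
  · subst e; exact closure_length ζ
  · refine length_stalk_eq_zero fun h => ?_
    have := (hX.2.2 ζ x (specializes_iff_mem_closure.2 (closure_support ζ h)) e).1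
    omega

/-- The sheaf attached to a nonnegative cycle has that cycle as its class. -/
theorem cycleSheafPos_spec (hX : Cyc.IsSetup X δ) (α : AlgebraicCycle X ℤ) (hα : α ∈ Cyc.Zk X δ k) :
    P (fun x => δ x ≤ k) (Cyc.cycleSheafPos ⇑α) ∧
      ∀ x, Cyc.sheafFun δ k (Cyc.cycleSheafPos ⇑α) x = max (α x) 0 := by
  classical
  let J := Σ ζ : {ζ : X // 0 < α ζ}, Fin (α ζ.1).toNat
  let H : J → X.Modules := fun i => Cyc.closureStructureSheaf i.1.1
  have hδ : ∀ i : J, δ i.1.1 = k := fun i => by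
    by_contra hne
    have := i.1.2
    rw [hα _ hne] at this
    omega
  have hLF : LocFin H := by
    intro x
    obtain ⟨t, ht, hf⟩ := α.supportLocallyFiniteWithinDomain' x trivial
    obtain ⟨U, hUt, hU, hxU⟩ := mem_nhds_iff.1 ht
    refine ⟨U, hU.mem_nhds hxU, ?_⟩
    haveI : Finite {ζ : {ζ : X // 0 < α ζ} // ζ.1 ∈ U} := by
      refine ((hf.preimage Subtype.val_injective.injOn).subset fun ζ hζ => ?_).to_subtype
      exact ⟨hUt hζ, fun h0 => by have := ζ.2; have h1 : α ζ.1 = 0 := h0; omega⟩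
    refine ((Set.finite_range fun p : Σ ζ : {ζ : {ζ : X // 0 < α ζ} // ζ.1 ∈ U}, Fin (α ζ.1.1).toNat =>
      (⟨p.1.1, p.2⟩ : J))).subset ?_
    rintro ⟨ζ, n⟩ ⟨y, hy, hyU⟩
    exact ⟨⟨⟨ζ, (specializes_iff_mem_closure.2 (closure_support ζ.1 hy)).mem_open hU hyU⟩, n⟩, rfl⟩
  have hP : P (fun x => δ x ≤ k) (∐ H) := P.sigma hLF fun i => closure_P hX (hδ i).le
  refine ⟨hP, fun x => ?_⟩
  show Cyc.sheafFun δ k (∐ H) x = _
  by_cases hx : δ x = k
  swap
  · rw [Cyc.sheafFun, if_neg hx, hα x hx, max_self]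
  rw [Cyc.sheafFun, if_pos hx]
  show ((Module.length (X.presheaf.stalk x) ((St x).obj (∐ H))).toNat : ℤ) = _
  by_cases h0 : 0 < α x
  · let S : Finset J := Finset.univ.map ⟨fun n : Fin (α x).toNat => (⟨⟨x, h0⟩, n⟩ : J),
      fun a b h => eq_of_heq (Sigma.mk.inj h).2⟩
    have hS : ∀ i ∉ S, x ∉ CohB1.support (H i) := by
      rintro ⟨⟨ζ, hζ⟩, n⟩ hi hs
      by_cases e : ζ = x
      · subst e
        exact hi (Finset.mem_map.2 ⟨n, Finset.mem_univ _, rfl⟩)
      · have hl := sheafFun_closure hx hX (hδ ⟨⟨ζ, hζ⟩, n⟩)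
        rw [if_neg e] at hl
        haveI : Subsingleton ((St x).obj (Cyc.closureStructureSheaf ζ)) := Module.length_eq_zero_iff.1 hl
        exact hs this
    rw [length_stalk_sigma hS, Finset.sum_map]
    show ((∑ _n : Fin (α x).toNat, Module.length (X.presheaf.stalk x) ((St x).obj (Cyc.closureStructureSheaf x))).toNat : ℤ) = _
    rw [closure_length, Finset.sum_const, Finset.card_univ, Fintype.card_fin, nsmul_one, ENat.toNat_coe,
      Int.toNat_of_nonneg h0.le, max_eq_left h0.le]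
  · rw [max_eq_right (not_lt.1 h0), length_stalk_sigma (S := (∅ : Finset J)) fun i _ hs => ?_]
    · simp
    · have e : i.1.1 ≠ x := fun e => h0 (e ▸ i.1.2)
      have hl := sheafFun_closure hx hX (hδ i)
      rw [if_neg e] at hl
      haveI : Subsingleton ((St x).obj (Cyc.closureStructureSheaf i.1.1)) := Module.length_eq_zero_iff.1 hl
      exact hs this

theorem cycleSheafNeg_spec (hX : Cyc.IsSetup X δ) (α : AlgebraicCycle X ℤ) (hα : α ∈ Cyc.Zk X δ k) :
    P (fun x => δ x ≤ k) (Cyc.cycleSheafNeg ⇑α) ∧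
      ∀ x, Cyc.sheafFun δ k (Cyc.cycleSheafNeg ⇑α) x = max (-α x) 0 :=
  cycleSheafPos_spec hX (-α) ((ChowOps.zk X δ k).neg_mem hα)

/-- The class group of the top layer is the group of cycles. -/
theorem exists_equiv (hX : Cyc.IsSetup X δ) :
    ∃ ψ : Cyc.K0CohQuot δ k (k - 1) →+ (X → ℤ),
      (∀ F : X.Modules, Cyc.CohLe δ k F → ψ (Cyc.toK0CohQuot δ k (k - 1) F) = Cyc.sheafFun δ k F) ∧
        Function.Injective ψ ∧ Set.range ψ = {a | ∃ α : AlgebraicCycle X ℤ, α ∈ Cyc.Zk X δ k ∧ ⇑α = a} := by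
  obtain ⟨ψ₀, hψ₀⟩ := exists_lift (addOn_sheafFun (k := k) hX)
  have hker : AddSubgroup.closure {c : KZero.K0sub (Cyc.CohLe δ k) | ∃ F : X.Modules, Cyc.CohLe δ (k - 1) F ∧
      c = KZero.clSub (Cyc.CohLe δ k) F} ≤ ψ₀.ker := by
    rw [AddSubgroup.closure_le]
    rintro _ ⟨F, hF, rfl⟩
    exact (hψ₀ F (P.mono' (D := fun x => δ x ≤ k - 1) (fun x h => by omega) hF)).trans (sheafFun_kills hF)
  refine ⟨QuotientAddGroup.lift _ ψ₀ hker, fun F hF => hψ₀ F hF, ?_, ?_⟩
  · rw [injective_iff_map_eq_zero]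
    intro a ha
    obtain ⟨a, rfl⟩ := QuotientAddGroup.mk_surjective a
    obtain ⟨F, G, hF, hG, rfl⟩ := exists_diff (D := fun x => δ x ≤ k) a
    change ψ₀ (KZero.clSub _ F - KZero.clSub _ G) = 0 at ha
    rw [map_sub, hψ₀ F hF, hψ₀ G hG, sub_eq_zero] at ha
    refine (QuotientAddGroup.mk_sub _ _ _).trans (sub_eq_zero.2 ?_)
    exact toK0CohQuot_eq_of_sheafFun hX hF hG ha
  · ext a
    constructor
    · rintro ⟨b, rfl⟩
      obtain ⟨b, rfl⟩ := QuotientAddGroup.mk_surjective b
      obtain ⟨F, G, hF, hG, rfl⟩ := exists_diff (D := fun x => δ x ≤ k) b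
      obtain ⟨α, hα, eα⟩ := exists_cycle_sheafFun hX hF
      obtain ⟨β, hβ, eβ⟩ := exists_cycle_sheafFun hX hG
      refine ⟨α - β, (ChowOps.zk X δ k).sub_mem hα hβ, ?_⟩
      show ⇑α - ⇑β = ψ₀ _
      rw [map_sub, hψ₀ F hF, hψ₀ G hG, eα, eβ]
    · rintro ⟨α, hα, rfl⟩
      obtain ⟨h1, e1⟩ := cycleSheafPos_spec hX α hα
      obtain ⟨h2, e2⟩ := cycleSheafNeg_spec hX α hα
      refine ⟨Cyc.toK0CohQuot δ k (k - 1) (Cyc.cycleSheafPos ⇑α) - Cyc.toK0CohQuot δ k (k - 1) (Cyc.cycleSheafNeg ⇑α), ?_⟩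
      rw [map_sub]
      show ψ₀ _ - ψ₀ _ = _
      refine (congrArg₂ (· - ·) (hψ₀ _ h1) (hψ₀ _ h2)).trans ?_
      funext x
      rw [Pi.sub_apply, e1, e2]
      omega

end Delta

end CycK0Lib

end
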