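import Groth.Agent.CycK0Lib.Tensor

/-!
# Twisting by an invertible module in the Grothendieck group of coherent modules
-/

set_option autoImplicit false
set_option linter.style.haveILetI false
set_option linter.unusedSectionVars false

universe u v

open CategoryTheory CategoryTheory.Limits AlgebraicGeometry TopologicalSpace Opposite

noncomputable section

namespace CycK0Lib

open DevissLib (St)

variable {X : Scheme.{u}} {δ : X → ℤ} {k : ℤ} {L : X.Modules}

theorem P.tensor {D : X → Prop} (hL : PicF.IsInvertible L) {F : X.Modules} (hF : P D F) :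
    P D (CohB1.tensorMod L F) :=
  P.mk (HilbPolyLib.isCoh_tensor hL hF.coh) fun x hx => hF.supp (by rwa [HilbPolyLib.support_tensor hL] at hx)

variable [IsLocallyNoetherian X]

theorem addOn_twist (hL : PicF.IsInvertible L) :
    AddOn (fun x => δ x ≤ k + 1) fun F : X.Modules =>
      Cyc.toK0CohQuot δ (k + 1) (k - 1) (CohB1.tensorMod L F) - Cyc.toK0CohQuot δ (k + 1) (k - 1) F :=
  ⟨fun S hS h₁ h₂ h₃ => by
    have h := addOn_toK0CohQuot δ (k + 1) (k - 1)
    have e1 : Cyc.toK0CohQuot δ (k + 1) (k - 1) (CohB1.tensorMod L S.X₂) =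
        Cyc.toK0CohQuot δ (k + 1) (k - 1) (CohB1.tensorMod L S.X₁) +
          Cyc.toK0CohQuot δ (k + 1) (k - 1) (CohB1.tensorMod L S.X₃) :=
      h.add _ (HilbPolyLib.shortExact_tensor hL hS) (P.tensor hL h₁) (P.tensor hL h₂) (P.tensor hL h₃)
    show _ - _ = (_ - _) + (_ - _)
    rw [e1, h.add S hS h₁ h₂ h₃]
    abel⟩

theorem twist_kills (hX : Cyc.IsSetup X δ) (hL : PicF.IsInvertible L) {F : X.Modules}
    (hF : P (fun x => δ x ≤ k) F) :
    Cyc.toK0CohQuot δ (k + 1) (k - 1) (CohB1.tensorMod L F) - Cyc.toK0CohQuot δ (k + 1) (k - 1) F = 0 := by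
  rw [sub_eq_zero]
  refine (levels_delta hX.2.2).eq_of_stalkIso ((addOn_toK0CohQuot δ (k + 1) (k - 1)).mono fun x hx => by omega)
    (toK0CohQuot_kills δ (k + 1) (k - 1)) (P.tensor hL hF) hF fun x _ => ?_
  obtain ⟨e⟩ := CurvLib.nonempty_stalk_tensor_locFree (CurvLib.locFree_of_isInvertible hL) F x
  exact ⟨(St x).mapIso (HilbPolyLib.swapIso L F) ≪≫ (e.trans (LinearEquiv.funUnique (Fin 1) _ _)).toModuleIso⟩

theorem finsum_cycle_mul (α : AlgebraicCycle X ℤ) (hα : ∀ ξ, 0 ≤ α ξ) (y : X) (G : X → ℤ)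
    (hG : ∀ ξ, ¬ ξ ⤳ y → G ξ = 0) :
    ∑ᶠ i : (Σ ζ : {ζ : X // 0 < α ζ}, Fin (α ζ.1).toNat), G i.1.1 = ∑ᶠ ξ, α ξ * G ξ := by
  classical
  obtain ⟨T, hT⟩ := CycC1Lib.exists_finset_generizations α y
  rw [finsum_eq_sum_of_support_subset (fun ξ => α ξ * G ξ) (s := T) fun ξ hξ => by
      refine Finset.mem_coe.2 (hT ξ (left_ne_zero_of_mul hξ) ?_)
      by_contra h
      exact hξ (by show α ξ * G ξ = 0; rw [hG ξ h, mul_zero]),
    finsum_eq_sum_of_support_subset (s := (T.subtype fun ζ => 0 < α ζ).sigma fun _ => Finset.univ) _ fun i hi => by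
      refine Finset.mem_coe.2 (Finset.mem_sigma.2 ⟨Finset.mem_subtype.2 (hT _ i.1.2.ne' ?_), Finset.mem_univ _⟩)
      by_contra h
      exact hi (hG _ h),
    Finset.sum_sigma]
  simp only [Finset.sum_const, Finset.card_univ, Fintype.card_fin, nsmul_eq_mul]
  refine (Finset.sum_subtype_eq_sum_filter (fun ζ => (((α ζ).toNat : ℕ) : ℤ) * G ζ)).trans ?_
  refine (Finset.sum_filter_of_ne fun ξ _ h => ?_).trans (Finset.sum_congr rfl fun ξ _ => by
    rw [Int.toNat_of_nonneg (hα ξ)])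
  by_contra h0
  exact h (by rw [Int.toNat_of_nonpos (not_lt.1 h0)]; simp)

/-- The twist of a module by an invertible module differs from it by the first Chern class. -/
theorem twist_eq (hX : Cyc.IsSetup X δ) (hL : PicF.IsInvertible L) {F : X.Modules}
    (hF : P (fun x => δ x ≤ k + 1) F) (s : (ξ : X) → Cyc.secFibre L ξ) (hs : ∀ ξ, s ξ ≠ 0)
    (γ : AlgebraicCycle X ℤ) (hγk : γ ∈ Cyc.Zk X δ k)
    (hγ : ⇑γ = Cyc.c1CapFun δ L (Cyc.sheafFun δ (k + 1) F) s) :
    Cyc.toK0CohQuot δ (k + 1) (k - 1) (CohB1.tensorMod F L) - Cyc.toK0CohQuot δ (k + 1) (k - 1) F =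
      Cyc.toK0CohQuot δ (k + 1) (k - 1) (Cyc.cycleSheafPos ⇑γ) -
        Cyc.toK0CohQuot δ (k + 1) (k - 1) (Cyc.cycleSheafNeg ⇑γ) := by
  classical
  let φ₀ : X.Modules → Cyc.K0CohQuot δ (k + 1) (k - 1) := Cyc.toK0CohQuot δ (k + 1) (k - 1)
  have hφ₀ : AddOn (fun x => δ x ≤ k + 1) φ₀ := addOn_toK0CohQuot δ (k + 1) (k - 1)
  let φ : X.Modules → Cyc.K0CohQuot δ (k + 1) (k - 1) := fun G => φ₀ (CohB1.tensorMod L G) - φ₀ G
  have hswap : ∀ {G : X.Modules}, P (fun x => δ x ≤ k + 1) G → φ₀ (CohB1.tensorMod G L) - φ₀ G = φ G :=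
    fun {G} hG => congrArg (· - φ₀ G) (hφ₀.iso (HilbPolyLib.swapIso L G) (P.tensor hL hG)).symm
  obtain ⟨α, hα, eα⟩ := exists_cycle_sheafFun (k := k + 1) hX hF
  have hα0 : ∀ ξ, 0 ≤ α ξ := fun ξ => by
    rw [eα]
    unfold Cyc.sheafFun
    split_ifs
    · exact Int.natCast_nonneg _
    · rfl
  obtain ⟨hG, eG⟩ := sheafFun_sigma_N (k := k + 1) hX α hα
  let J := Σ ζ : {ζ : X // 0 < α ζ}, Fin (α ζ.1).toNat
  let Nf : J → X.Modules := fun i => N i.1.1
  have hlev : Levels (fun x : X => δ x ≤ k + 1) (fun x => δ x ≤ k + 1 - 1) := levels_delta (k := k + 1) hX.2.2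
  have e1 : φ F = φ (∐ Nf) := hlev.eq_of_lenFun (addOn_twist hL)
    (fun H hH => twist_kills hX hL (hH.mono' fun x hx => by omega)) hF hG (by
      rw [lenFun_delta (k := k + 1) hF, lenFun_delta (k := k + 1) hG]
      funext y
      show Cyc.sheafFun δ (k + 1) F y = Cyc.sheafFun δ (k + 1) (∐ Nf) y
      rw [eG y, ← eα, max_eq_left (hα0 y)])
  have hδ : ∀ i : J, δ i.1.1 = k + 1 := fun i => by
    by_contra hne
    have := i.1.2
    rw [hα _ hne] at this
    omega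
  let Mf : J → X.Modules := fun i => CohB1.tensorMod (Nf i) L
  have hLN : LocFin Nf := locFin_cycle α fun i => support_le_closure (bN _)
  have hPN : ∀ i, P (fun x => δ x ≤ k + 1) (Nf i) := fun i => P_N hX (hδ i).le
  have hPM : ∀ i, P (fun x => δ x ≤ k + 1) (Mf i) := fun i =>
    (P.tensor hL (hPN i)).of_iso (HilbPolyLib.swapIso L (Nf i))
  have hLM : LocFin Mf := hLN.mono fun i => by
    rw [DevissLib.support_iso (HilbPolyLib.swapIso (Nf i) L), HilbPolyLib.support_tensor hL]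
  have key := twisted_family hX hPM hPN hLM hLN
    (fun i => twisted_line hX (hδ i) hL (hs i.1.1)) γ hγk fun y _ => by
      rw [hγ, Cyc.c1CapFun]
      show ∑ᶠ ξ, Cyc.sheafFun δ (k + 1) F ξ * Cyc.secDivFun δ L ξ (s ξ) y = _
      rw [← eα]
      exact (finsum_cycle_mul α hα0 y (fun ξ => Cyc.secDivFun δ L ξ (s ξ) y)
        fun ξ h => CycC1Lib.secDivFun_eq_zero_of_not (fun h' => h h'.1) _).symm
  let iso : CohB1.tensorMod (∐ Nf) L ≅ ∐ Mf := PreservesCoproduct.iso ((DCoh.tensorBi (X := X)).flip.obj L) Nf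
  show φ₀ (CohB1.tensorMod F L) - φ₀ F = _
  rw [hswap hF, e1, ← hswap hG, hφ₀.iso iso ((P.tensor hL hG).of_iso (HilbPolyLib.swapIso L (∐ Nf)))]
  exact key

end CycK0Lib

end
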