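import Groth.Agent.CycK0Lib.Pi
import Groth.Agent.KHeartLib.CohSupp

/-!
# Additive functions on coherent modules with support conditions; the swindle
-/

set_option autoImplicit false
set_option linter.style.haveILetI false
set_option linter.unusedSectionVars false

universe u v

open CategoryTheory CategoryTheory.Limits AlgebraicGeometry TopologicalSpace Opposite
open scoped ZeroObject

noncomputable section

namespace CycK0Lib

variable {X : Scheme.{u}}

/-- Coherent modules whose support satisfies `D`. -/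
def P (D : X → Prop) : ObjectProperty X.Modules :=
  fun F => Coh.IsCoh F ∧ ∀ x : X, Nontrivial (F.presheaf.stalk x) → D x

theorem nontrivial_iff_mem {F : X.Modules} {x : X} : Nontrivial (F.presheaf.stalk x) ↔ x ∈ CohB1.support F :=
  not_subsingleton_iff_nontrivial.symm

variable {D : X → Prop}

theorem P.coh {F : X.Modules} (h : P D F) : Coh.IsCoh F := h.1

theorem P.supp {F : X.Modules} (h : P D F) {x : X} (hx : x ∈ CohB1.support F) : D x :=
  h.2 x (nontrivial_iff_mem.2 hx)

theorem P.mk {F : X.Modules} (h : Coh.IsCoh F) (hD : ∀ x ∈ CohB1.support F, D x) : P D F :=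
  ⟨h, fun x hx => hD x (nontrivial_iff_mem.1 hx)⟩

theorem P_zero {F : X.Modules} (h : IsZero F) : P D F :=
  P.mk (DevissLib.isCoh_of_isZero h) fun x hx => by rw [DevissLib.support_of_isZero h] at hx; exact hx.elim

theorem P.of_iso {F G : X.Modules} (e : F ≅ G) (h : P D F) : P D G :=
  P.mk (QCohLib.isCoh_of_iso e h.1) fun _ hx => h.supp ((DevissLib.support_iso e).ge hx)

theorem P.mono' {D' : X → Prop} (hDD : ∀ x, D x → D' x) {F : X.Modules} (h : P D F) : P D' F :=
  P.mk h.1 fun _ hx => hDD _ (h.supp hx)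

variable [IsLocallyNoetherian X]

theorem P.of_shortExact {S : ShortComplex X.Modules} (hS : S.ShortExact) (h₁ : P D S.X₁) (h₃ : P D S.X₃) :
    P D S.X₂ :=
  P.mk (Groth.Agent.KHeartLib.isCoh_of_shortExact hS h₁.1 h₃.1) fun _ hx =>
    (Groth.Agent.KHeartLib.support_X₂_subset hS hx).elim h₁.supp h₃.supp

theorem P.kernel {F G : X.Modules} (f : F ⟶ G) (hF : P D F) (hG : Coh.IsQCoh G) : P D (kernel f) :=
  P.mk (QCohLib.isCoh_kernel f hF.1 hG) fun _ hx => hF.supp (DevissLib.support_mono (kernel.ι f) hx)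

theorem P.cokernel {F G : X.Modules} (f : F ⟶ G) (hF : Coh.IsQCoh F) (hG : P D G) : P D (cokernel f) :=
  P.mk (QCohLib.isCoh_cokernel f hF hG.1) fun _ hx => hG.supp (DevissLib.support_epi (cokernel.π f) hx)

theorem P.sigma {I : Type u} {F : I → X.Modules} (hF : LocFin F) (h : ∀ i, P D (F i)) : P D (∐ F) :=
  P.mk (isCoh_sigma hF fun i => (h i).1) fun _ hx => by
    obtain ⟨i, hi⟩ := Set.mem_iUnion.1 (support_sigma hF hx)
    exact (h i).supp hi

theorem P.biprod {F G : X.Modules} (hF : P D F) (hG : P D G) : P D (F ⊞ G) :=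
  P.mk (DevissLib.isCoh_biprod hF.1 hG.1) fun _ hx => (DevissLib.support_biprod hx).elim hF.supp hG.supp

variable {A : Type v} [AddCommGroup A]

/-- An additive function on `P D`. -/
structure AddOn (D : X → Prop) (φ : X.Modules → A) : Prop where
  add : ∀ S : ShortComplex X.Modules, S.ShortExact → P D S.X₁ → P D S.X₂ → P D S.X₃ → φ S.X₂ = φ S.X₁ + φ S.X₃

variable {φ : X.Modules → A}

theorem AddOn.zero (h : AddOn D φ) {F : X.Modules} (hF : IsZero F) : φ F = 0 := by
  let S : ShortComplex X.Modules := ShortComplex.mk (0 : F ⟶ F) (0 : F ⟶ F) comp_zero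
  have hS : S.ShortExact :=
    { exact := ShortComplex.exact_of_isZero_X₂ _ hF
      mono_f := ⟨fun a b _ => hF.eq_of_tgt a b⟩
      epi_g := ⟨fun a b _ => hF.eq_of_src a b⟩ }
  exact add_eq_left.1 (h.add S hS (P_zero hF) (P_zero hF) (P_zero hF)).symm

theorem AddOn.iso (h : AddOn D φ) {F G : X.Modules} (e : F ≅ G) (hF : P D F) : φ F = φ G := by
  have hz := Limits.isZero_zero X.Modules
  let S : ShortComplex X.Modules := ShortComplex.mk e.hom (0 : G ⟶ (0 : X.Modules)) comp_zero
  have hS : S.ShortExact :=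
    { exact := (ShortComplex.exact_iff_epi _ rfl).mpr inferInstance
      mono_f := inferInstanceAs (Mono e.hom)
      epi_g := ⟨fun a b _ => hz.eq_of_src a b⟩ }
  have := h.add S hS hF (hF.of_iso e) (P_zero hz)
  rw [h.zero hz, add_zero] at this
  exact this.symm

theorem AddOn.biprod (h : AddOn D φ) {F G : X.Modules} (hF : P D F) (hG : P D G) : φ (F ⊞ G) = φ F + φ G :=
  h.add (ShortComplex.mk biprod.inl biprod.snd biprod.inl_snd)
    (ShortComplex.Splitting.shortExact { r := biprod.fst, s := biprod.inr, id := biprod.total })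
    hF (hF.biprod hG) hG

/-- Invariance under morphisms with negligible kernel and cokernel. -/
theorem AddOn.of_negligible {D' : X → Prop} (h : AddOn D φ) (hDD : ∀ x, D' x → D x) (hφ : ∀ F, P D' F → φ F = 0)
    {F G : X.Modules} (f : F ⟶ G) (hF : P D F) (hG : P D G)
    (hk : ∀ x ∈ CohB1.support (kernel f), D' x) (hc : ∀ x ∈ CohB1.support (cokernel f), D' x) : φ F = φ G := by
  have hK : P D' (kernel f) := P.mk (hF.kernel f hG.1.1).1 hk
  have hC : P D' (cokernel f) := P.mk (hG.cokernel f hF.1.1).1 hc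
  have hI : P D (Abelian.image f) := hG.kernel (cokernel.π f) (hC.1.1)
  have h1 : φ F = φ (Abelian.image f) := by
    rw [h.add (DevissLib.kerImSeq f) (DevissLib.kerImSeq_shortExact f) (hK.mono' hDD) hF hI, hφ _ hK, zero_add]
  rw [h1, h.add (DevissLib.imCokSeq f) (DevissLib.imCokSeq_shortExact f) hI hG (hC.mono' hDD), hφ _ hC, add_zero]

section Swindle

variable (G : ℕ → X.Modules)

/-- The family indexed in the universe of the scheme. -/
abbrev fam : ULift.{u} ℕ → X.Modules := fun n => G n.down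

theorem locFin_shift (hG : LocFin (fam G)) : LocFin (fam fun n => G (n + 1)) := by
  unfold LocFin at hG ⊢
  intro x
  obtain ⟨t, ht, hf⟩ := hG x
  refine ⟨t, ht, (hf.preimage (f := fun n : ULift.{u} ℕ => (⟨n.down + 1⟩ : ULift.{u} ℕ)) ?_).subset ?_⟩
  · intro a _ b _ hab
    exact ULift.ext _ _ (Nat.succ_injective (congrArg ULift.down hab))
  · intro n hn
    exact hn

open Classical in
/-- The split sequence removing the first term. -/
def shiftCx : ShortComplex X.Modules :=
  ShortComplex.mk (Sigma.desc fun n => Sigma.ι (fam G) ⟨n.down + 1⟩ : ∐ (fam fun n => G (n + 1)) ⟶ ∐ (fam G))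
    (proj (fam G) ⟨0⟩) (Sigma.hom_ext _ _ fun n => by
      rw [Sigma.ι_desc_assoc, ι_proj_ne _ (fun h => Nat.succ_ne_zero _ (congrArg ULift.down h)), comp_zero])

theorem shiftCx_shortExact : (shiftCx G).ShortExact := by
  let r : ∐ (fam G) ⟶ ∐ (fam fun n => G (n + 1)) := Sigma.desc fun n => match n with
    | ⟨0⟩ => 0
    | ⟨m + 1⟩ => Sigma.ι (fam fun n => G (n + 1)) ⟨m⟩
  refine ShortComplex.Splitting.shortExact
    { r := r, s := Sigma.ι (fam G) ⟨0⟩
      f_r := Sigma.hom_ext _ _ fun n => ?_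
      s_g := ι_proj_self _ _
      id := Sigma.hom_ext _ _ fun n => ?_ }
  · show Sigma.ι (fam fun n => G (n + 1)) n ≫ (Sigma.desc fun n => Sigma.ι (fam G) ⟨n.down + 1⟩) ≫ r = _
    rw [Sigma.ι_desc_assoc, Sigma.ι_desc]
    exact (Category.comp_id _).symm
  · show Sigma.ι (fam G) n ≫ (r ≫ (Sigma.desc fun n => Sigma.ι (fam G) ⟨n.down + 1⟩) +
      proj (fam G) ⟨0⟩ ≫ Sigma.ι (fam G) ⟨0⟩) = _
    rw [Preadditive.comp_add]
    refine Eq.trans ?_ (Category.comp_id _).symm
    obtain ⟨_ | m⟩ := n
    · rw [Sigma.ι_desc_assoc, ι_proj_self_assoc, zero_comp, zero_add]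
    · rw [Sigma.ι_desc_assoc, Sigma.ι_desc, ← Category.assoc,
        ι_proj_ne (fam G) (fun h => Nat.succ_ne_zero _ (congrArg ULift.down h)), zero_comp, add_zero]

variable {G}

/-- A locally finite filtration has the class of its graded pieces. -/
theorem AddOn.swindle (h : AddOn D φ) (g : ∀ n, G (n + 1) ⟶ G n) [∀ n, Mono (g n)] (hG : LocFin (fam G))
    (hP : ∀ n, P D (G n)) : φ (G 0) = φ (∐ fam fun n => cokernel (g n)) := by
  let T : ULift.{u} ℕ → ShortComplex X.Modules := fun n =>
    ShortComplex.mk (g n.down) (cokernel.π (g n.down)) (cokernel.condition _)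
  have hT : ∀ n, (T n).ShortExact := fun n =>
    { exact := ShortComplex.exact_cokernel _
      mono_f := inferInstanceAs (Mono (g n.down))
      epi_g := inferInstanceAs (Epi (cokernel.π (g n.down))) }
  have hQ : LocFin (fam fun n => cokernel (g n)) := hG.mono fun n => DevissLib.support_epi (cokernel.π (g n.down))
  have h1 := h.add (shiftCx G) (shiftCx_shortExact G) (P.sigma (locFin_shift G hG) fun n => hP _)
    (P.sigma hG fun n => hP _) (hP 0)
  have h2 := h.add (sigmaCx T) (sigmaCx_shortExact T hG hT) (P.sigma (locFin_shift G hG) fun n => hP _)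
    (P.sigma hG fun n => hP _) (P.sigma hQ fun n => (hP _).cokernel _ (hP _).1.1)
  exact add_left_cancel (h1.symm.trans h2)

end Swindle

/-- The class in the Grothendieck group is additive. -/
theorem addOn_clSub : AddOn D (KZero.clSub (P D)) := ⟨fun S hS h₁ h₂ h₃ => by
  rw [KZero.clSub, dif_pos h₂, KZero.clSub, dif_pos h₁, KZero.clSub, dif_pos h₃, ← QuotientAddGroup.mk_add,
    QuotientAddGroup.eq]
  exact (AddSubgroup.neg_mem_iff _).1 (AddSubgroup.subset_closure ⟨S, h₁, h₂, h₃, hS, by abel⟩)⟩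

/-- Homomorphisms out of the Grothendieck group. -/
theorem exists_lift (h : AddOn D φ) :
    ∃ ψ : KZero.K0sub (P D) →+ A, ∀ F, P D F → ψ (KZero.clSub (P D) F) = φ F := by
  refine ⟨QuotientAddGroup.lift _ (FreeAbelianGroup.lift fun F : Subtype (P D) => φ F.1)
    ((AddSubgroup.closure_le _).2 ?_), fun F hF => ?_⟩
  · rintro _ ⟨S, h₁, h₂, h₃, hS, rfl⟩
    show (FreeAbelianGroup.lift fun F : Subtype (P D) => φ F.1) _ = 0
    rw [map_sub, map_sub, FreeAbelianGroup.lift_apply_of, FreeAbelianGroup.lift_apply_of, FreeAbelianGroup.lift_apply_of,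
      h.add S hS h₁ h₂ h₃]
    abel
  · rw [KZero.clSub, dif_pos hF]
    exact FreeAbelianGroup.lift_apply_of _ _

theorem induction_clSub {motive : KZero.K0sub (P D) → Prop} (h0 : motive 0)
    (hcl : ∀ F, P D F → motive (KZero.clSub (P D) F)) (hneg : ∀ a, motive a → motive (-a))
    (hadd : ∀ a b, motive a → motive b → motive (a + b)) (a : KZero.K0sub (P D)) : motive a := by
  obtain ⟨a, rfl⟩ := QuotientAddGroup.mk_surjective a
  induction a using FreeAbelianGroup.induction_on with
  | zero => exact h0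
  | of F =>
    have := hcl F.1 F.2
    rwa [KZero.clSub, dif_pos F.2] at this
  | neg F h => exact hneg _ h
  | add a b ha hb => exact hadd _ _ ha hb

end CycK0Lib

end
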