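import Groth.Agent.CycK0Lib.Core

/-!
# Locally finite families of twisted pairs
-/

set_option autoImplicit false
set_option linter.style.haveILetI false
set_option linter.unusedSectionVars false

universe u v

open CategoryTheory CategoryTheory.Limits AlgebraicGeometry TopologicalSpace Opposite

noncomputable section

namespace CycK0Lib

open DevissLib (St)

variable {X : Scheme.{u}} {δ : X → ℤ} {k : ℤ}

theorem AddOn.mono {D D₀ : X → Prop} {A : Type v} [AddCommGroup A] {φ : X.Modules → A} (h : AddOn D φ)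
    (hle : ∀ x, D₀ x → D x) : AddOn D₀ φ :=
  ⟨fun S hS a b c => h.add S hS (a.mono' hle) (b.mono' hle) (c.mono' hle)⟩

variable [IsLocallyNoetherian X]

theorem sheafFun_sigma (hX : Cyc.IsSetup X δ) {I : Type u} {F : I → X.Modules} (hF : LocFin F)
    (hP : ∀ i, P (fun x => δ x ≤ k) (F i)) (y : X) :
    Cyc.sheafFun δ k (∐ F) y = ∑ᶠ i, Cyc.sheafFun δ k (F i) y := by
  by_cases hy : δ y = k
  swap
  · simp only [Cyc.sheafFun, if_neg hy, finsum_zero]
  obtain ⟨S, hS⟩ := exists_finset_at hF y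
  have hsupp : (Function.support fun i => Cyc.sheafFun δ k (F i) y) ⊆ ↑S := fun i hi => by
    by_contra h
    refine hi ?_
    show Cyc.sheafFun δ k (F i) y = 0
    rw [Cyc.sheafFun, if_pos hy]
    show ((Module.length (X.presheaf.stalk y) ((St y).obj (F i))).toNat : ℤ) = 0
    rw [length_stalk_eq_zero (hS i fun h' => h (Finset.mem_coe.2 h'))]
    rfl
  have hne : ∀ i ∈ S, Module.length (X.presheaf.stalk y) ((St y).obj (F i)) ≠ ⊤ := fun i _ =>
    (levels_delta hX.2.2).length_ne_top (hP i) (by omega)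
  rw [finsum_eq_sum_of_support_subset _ hsupp, Cyc.sheafFun, if_pos hy]
  show ((Module.length (X.presheaf.stalk y) ((St y).obj (∐ F))).toNat : ℤ) = _
  rw [length_stalk_sigma hS, ENat.toNat_sum hne, Nat.cast_sum]
  refine Finset.sum_congr rfl fun i _ => ?_
  rw [Cyc.sheafFun, if_pos hy]
  rfl

/-- A locally finite family of twisted pairs gives the class of the sum of the cycles. -/
theorem twisted_family (hX : Cyc.IsSetup X δ) {I : Type u} {M N₀ : I → X.Modules} {g : I → X → ℤ}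
    (hM : ∀ i, P (fun x => δ x ≤ k + 1) (M i)) (hN : ∀ i, P (fun x => δ x ≤ k + 1) (N₀ i))
    (hLM : LocFin M) (hLN : LocFin N₀) (h : ∀ i, Twisted δ k (M i) (N₀ i) (g i)) (γ : AlgebraicCycle X ℤ)
    (hγk : γ ∈ Cyc.Zk X δ k) (hγ : ∀ y, δ y = k → γ y = ∑ᶠ i, g i y) :
    Cyc.toK0CohQuot δ (k + 1) (k - 1) (∐ M) - Cyc.toK0CohQuot δ (k + 1) (k - 1) (∐ N₀) =
      Cyc.toK0CohQuot δ (k + 1) (k - 1) (Cyc.cycleSheafPos ⇑γ) -
        Cyc.toK0CohQuot δ (k + 1) (k - 1) (Cyc.cycleSheafNeg ⇑γ) := by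
  choose K p q hp hq hK hCp hCq hg using h
  let φ : X.Modules → Cyc.K0CohQuot δ (k + 1) (k - 1) := Cyc.toK0CohQuot δ (k + 1) (k - 1)
  have hφ : AddOn (fun x => δ x ≤ k + 1) φ := addOn_toK0CohQuot δ (k + 1) (k - 1)
  have hle : ∀ x, δ x ≤ k → δ x ≤ k + 1 := fun x hx => by omega
  have hLC : LocFin fun i => cokernel (p i) := hLM.mono fun i => DevissLib.support_epi (cokernel.π (p i))
  have hLD : LocFin fun i => cokernel (q i) := hLN.mono fun i => DevissLib.support_epi (cokernel.π (q i))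
  haveI := hp
  haveI := hq
  have hLK : LocFin K := hLM.mono fun i => DevissLib.support_mono (p i)
  let T : I → ShortComplex X.Modules := fun i => ShortComplex.mk (p i) (cokernel.π (p i)) (cokernel.condition _)
  let T' : I → ShortComplex X.Modules := fun i => ShortComplex.mk (q i) (cokernel.π (q i)) (cokernel.condition _)
  have hT : ∀ i, (T i).ShortExact := fun i =>
    { exact := ShortComplex.exact_of_g_is_cokernel _ (cokernelIsCokernel (p i))
      mono_f := hp i
      epi_g := inferInstanceAs (Epi (cokernel.π (p i))) }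
  have hT' : ∀ i, (T' i).ShortExact := fun i =>
    { exact := ShortComplex.exact_of_g_is_cokernel _ (cokernelIsCokernel (q i))
      mono_f := hq i
      epi_g := inferInstanceAs (Epi (cokernel.π (q i))) }
  have hPC : P (fun x => δ x ≤ k) (∐ fun i => cokernel (p i)) := P.sigma hLC hCp
  have hPD : P (fun x => δ x ≤ k) (∐ fun i => cokernel (q i)) := P.sigma hLD hCq
  have e1 : φ (∐ M) = φ (∐ K) + φ (∐ fun i => cokernel (p i)) :=
    hφ.add _ (sigmaCx_shortExact T hLM hT) (P.sigma hLK hK) (P.sigma hLM hM) (hPC.mono' hle)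
  have e2 : φ (∐ N₀) = φ (∐ K) + φ (∐ fun i => cokernel (q i)) :=
    hφ.add _ (sigmaCx_shortExact T' hLN hT') (P.sigma hLK hK) (P.sigma hLN hN) (hPD.mono' hle)
  obtain ⟨hPos, ePos⟩ := cycleSheafPos_spec hX γ hγk
  obtain ⟨hNeg, eNeg⟩ := cycleSheafNeg_spec hX γ hγk
  have hφ' : AddOn (fun x => δ x ≤ k) φ := hφ.mono hle
  have hA := hPC.biprod hNeg
  have hB := hPD.biprod hPos
  have key : φ ((∐ fun i => cokernel (p i)) ⊞ Cyc.cycleSheafNeg ⇑γ) =
      φ ((∐ fun i => cokernel (q i)) ⊞ Cyc.cycleSheafPos ⇑γ) := by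
    refine (levels_delta hX.2.2).eq_of_lenFun hφ' (toK0CohQuot_kills δ (k + 1) (k - 1)) hA hB ?_
    rw [lenFun_delta hA, lenFun_delta hB, (addOn_sheafFun (k := k) hX).biprod hPC hNeg,
      (addOn_sheafFun (k := k) hX).biprod hPD hPos]
    funext y
    by_cases hy : δ y = k
    swap
    · simp only [Pi.add_apply, Cyc.sheafFun, if_neg hy]
    have hfin : ∀ {C : I → X.Modules}, LocFin C → (Function.support fun i => Cyc.sheafFun δ k (C i) y).Finite := by
      intro C hC
      obtain ⟨S, hS⟩ := exists_finset_at hC y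
      refine S.finite_toSet.subset fun i hi => ?_
      by_contra h
      refine hi ?_
      show Cyc.sheafFun δ k (C i) y = 0
      rw [Cyc.sheafFun, if_pos hy]
      show ((Module.length (X.presheaf.stalk y) ((St y).obj (C i))).toNat : ℤ) = 0
      rw [length_stalk_eq_zero (hS i fun h' => h (Finset.mem_coe.2 h'))]
      rfl
    rw [Pi.add_apply, Pi.add_apply, sheafFun_sigma hX hLC hCp, sheafFun_sigma hX hLD hCq, ePos, eNeg]
    have hsum : (∑ᶠ i, Cyc.sheafFun δ k (cokernel (p i)) y) - (∑ᶠ i, Cyc.sheafFun δ k (cokernel (q i)) y) = γ y := by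
      rw [hγ y hy, ← finsum_sub_distrib (hfin hLC) (hfin hLD)]
      exact finsum_congr fun i => hg i y hy
    omega
  rw [hφ'.biprod hPC hNeg, hφ'.biprod hPD hPos] at key
  show φ (∐ M) - φ (∐ N₀) = φ _ - φ _
  rw [e1, e2, add_sub_add_left_eq_sub, sub_eq_sub_iff_add_eq_add, key]
  exact add_comm _ _

/-- The index family of a cycle is locally finite. -/
theorem locFin_cycle (α : AlgebraicCycle X ℤ) {H : (Σ ζ : {ζ : X // 0 < α ζ}, Fin (α ζ.1).toNat) → X.Modules}
    (hH : ∀ i, CohB1.support (H i) ⊆ closure {i.1.1}) : LocFin H := by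
  intro x
  obtain ⟨t, ht, hf⟩ := α.supportLocallyFiniteWithinDomain' x trivial
  obtain ⟨U, hUt, hU, hxU⟩ := mem_nhds_iff.1 ht
  refine ⟨U, hU.mem_nhds hxU, ?_⟩
  haveI : Finite {ζ : {ζ : X // 0 < α ζ} // ζ.1 ∈ U} := by
    refine ((hf.preimage Subtype.val_injective.injOn).subset fun ζ hζ => ?_).to_subtype
    exact ⟨hUt hζ, fun h0 => by have := ζ.2; have h1 : α ζ.1 = 0 := h0; omega⟩
  refine ((Set.finite_range fun p : Σ ζ : {ζ : {ζ : X // 0 < α ζ} // ζ.1 ∈ U}, Fin (α ζ.1.1).toNat =>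
    (⟨p.1.1, p.2⟩ : Σ ζ : {ζ : X // 0 < α ζ}, Fin (α ζ.1).toNat))).subset ?_
  rintro ⟨ζ, n⟩ ⟨y, hy, hyU⟩
  exact ⟨⟨⟨ζ, (specializes_iff_mem_closure.2 (hH ⟨ζ, n⟩ hy)).mem_open hU hyU⟩, n⟩, rfl⟩

theorem P_N (hX : Cyc.IsSetup X δ) {ξ : X} (hξ : δ ξ ≤ k) : P (fun x => δ x ≤ k) (N ξ) :=
  P.mk (isCoh_N ξ) fun x hx => by
    have h := specializes_iff_mem_closure.2 (support_le_closure (bN ξ) hx)
    by_cases e : ξ = x
    · subst e; exact hξ
    · have := (hX.2.2 ξ x h e).1; omega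

/-- The family of lines of a nonnegative cycle has the same lengths as its sheaf. -/
theorem sheafFun_sigma_N (hX : Cyc.IsSetup X δ) (α : AlgebraicCycle X ℤ) (hα : α ∈ Cyc.Zk X δ k) :
    P (fun x => δ x ≤ k) (∐ fun i : (Σ ζ : {ζ : X // 0 < α ζ}, Fin (α ζ.1).toNat) => N i.1.1) ∧
      ∀ y, Cyc.sheafFun δ k (∐ fun i : (Σ ζ : {ζ : X // 0 < α ζ}, Fin (α ζ.1).toNat) => N i.1.1) y = max (α y) 0 := by
  obtain ⟨-, e⟩ := cycleSheafPos_spec hX α hα
  have hδ : ∀ i : (Σ ζ : {ζ : X // 0 < α ζ}, Fin (α ζ.1).toNat), δ i.1.1 = k := fun i => by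
    by_contra hne
    have := i.1.2
    rw [hα _ hne] at this
    omega
  have hL : LocFin fun i : (Σ ζ : {ζ : X // 0 < α ζ}, Fin (α ζ.1).toNat) => N i.1.1 :=
    locFin_cycle α fun i => support_le_closure (bN _)
  have hPi : ∀ i : (Σ ζ : {ζ : X // 0 < α ζ}, Fin (α ζ.1).toNat), P (fun x => δ x ≤ k) (N i.1.1) :=
    fun i => P_N hX (hδ i).le
  refine ⟨P.sigma hL hPi, fun y => ?_⟩
  rw [sheafFun_sigma hX hL hPi, ← e y]
  refine Eq.trans ?_ (sheafFun_sigma hX (locFin_cycle α fun i => closure_support _)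
    (fun i : (Σ ζ : {ζ : X // 0 < α ζ}, Fin (α ζ.1).toNat) => closure_P hX (hδ i).le) y).symm
  refine finsum_congr fun i => ?_
  unfold Cyc.sheafFun
  split_ifs with hy
  · have h2 := sheafFun_closure hy hX (hδ i)
    show ((Module.length (X.presheaf.stalk y) ((St y).obj (N i.1.1))).toNat : ℤ) =
      (Module.length (X.presheaf.stalk y) ((St y).obj (Cyc.closureStructureSheaf i.1.1))).toNat
    rw [h2]
    split_ifs with hi
    · subst hi; rw [length_N]
    · rw [length_stalk_eq_zero fun hs => ?_]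
      have := (hX.2.2 i.1.1 y (specializes_iff_mem_closure.2 (support_le_closure (bN _) hs)) hi).1
      have := hδ i
      omega
  · rfl

end CycK0Lib

end
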