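import Groth.Agent.CycK0Lib.SkyQ
import Groth.Agent.S1916
import Groth.Agent.AssPointLib.Basic

/-!
# Coherent modules modulo smaller support are determined by their stalks at the top points
-/

set_option autoImplicit false
set_option linter.style.haveILetI false
set_option linter.unusedSectionVars false

universe u v

open CategoryTheory CategoryTheory.Limits AlgebraicGeometry TopologicalSpace Opposite
open IsLocalRing (maximalIdeal)

noncomputable section

namespace CycK0Lib

open DevissLib (St)
open KFlatLib (skyObj skyLift skyMod skyCounit)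

variable {X : Scheme.{u}}

/-- `D'` is a level strictly below `D`. -/
structure Levels (D D' : X → Prop) : Prop where
  le : ∀ x, D' x → D x
  max : ∀ x y, ¬ D' x → D y → y ⤳ x → y = x

variable {D D' : X → Prop}

theorem map_kernel_exact {F G : X.Modules} (f : F ⟶ G) (x : X) {a : (St x).obj F} (ha : ((St x).map f).hom a = 0) :
    ∃ b : (St x).obj (kernel f), ((St x).map (kernel.ι f)).hom b = a :=
  (ShortComplex.moduleCat_exact_iff _).1
    ((ShortComplex.exact_of_f_is_kernel (ShortComplex.mk (kernel.ι f) f (kernel.condition f))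
      (kernelIsKernel f)).map (St x)) a ha

theorem kernel_ι_injective {F G : X.Modules} (f : F ⟶ G) (x : X) :
    Function.Injective ((St x).map (kernel.ι f)).hom :=
  (ModuleCat.mono_iff_injective _).mp inferInstance

section Proj

variable {I : Type u} {F G : I → X.Modules}

theorem map_proj (τ : ∀ i, F i ⟶ G i) (i : I) : Limits.Sigma.map τ ≫ proj G i = proj F i ≫ τ i := by
  refine Sigma.hom_ext _ _ fun j => ?_
  rw [Sigma.ι_map_assoc]
  by_cases hj : j = i
  · subst hj
    rw [ι_proj_self, ι_proj_self_assoc, Category.comp_id]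
  · rw [ι_proj_ne _ hj, reassoc_of% (ι_proj_ne F hj), comp_zero, zero_comp]

theorem stalk_ext {x : X} (hF : LocFin F) {a b : (St x).obj (∐ F)}
    (h : ∀ i, x ∈ CohB1.support (F i) → ((St x).map (proj F i)).hom a = ((St x).map (proj F i)).hom b) : a = b := by
  obtain ⟨S, hS⟩ := exists_finset_at hF x
  refine (stalkEquiv hS).injective (funext fun i => ?_)
  by_cases hi : x ∈ CohB1.support (F i.1)
  · exact h i.1 hi
  · exact @Subsingleton.elim _ (not_not.mp hi) _ _

/-- A map into a locally finite coproduct with a single relevant component. -/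
theorem lift_bijective (hF : LocFin F) {M : X.Modules} (g : ∀ i, M ⟶ F i) {x : X} (i₀ : I)
    (h0 : ∀ i, x ∈ CohB1.support (F i) → i = i₀) (hg : Function.Bijective ((St x).map (g i₀)).hom) :
    Function.Bijective ((St x).map (sigmaLift hF g)).hom := by
  have hp : ∀ a, ((St x).map (proj F i₀)).hom (((St x).map (sigmaLift hF g)).hom a) = ((St x).map (g i₀)).hom a :=
    fun a => by rw [← LinearMap.comp_apply, ← ModuleCat.hom_comp, ← Functor.map_comp, sigmaLift_proj]
  refine ⟨fun a b e => hg.1 (by rw [← hp, ← hp, e]), fun c => ?_⟩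
  obtain ⟨a, ha⟩ := hg.2 (((St x).map (proj F i₀)).hom c)
  refine ⟨a, stalk_ext hF fun i hi => ?_⟩
  obtain rfl := h0 i hi
  rw [hp, ha]

end Proj

theorem skyLift_bijective (x : X) {M : X.Modules} {A : ModuleCat.{u} (X.presheaf.stalk x)}
    (a : (St x).obj M ⟶ A) (ha : Function.Bijective a.hom) :
    Function.Bijective ((St x).map (skyLift x a)).hom := by
  have hc : Function.Bijective (skyCounit x A).hom.hom :=
    ConcreteCategory.bijective_of_isIso (skyCounit x A).hom
  have h : ∀ p, (skyCounit x A).hom.hom (((St x).map (skyLift x a)).hom p) = a.hom p := fun p =>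
    congr($(KFlatLib.skyLift_counit x a).hom p)
  refine ⟨fun p q e => ha.1 ?_, fun c => ?_⟩
  · rw [← h p, ← h q]
    exact congrArg (skyCounit x A).hom.hom e
  · obtain ⟨p, hp⟩ := ha.2 ((skyCounit x A).hom.hom c)
    exact ⟨p, hc.1 ((h p).trans hp)⟩

variable [IsLocallyNoetherian X]

/-- The points of the support outside the lower level. -/
abbrev Top (D' : X → Prop) (F : X.Modules) : Type u := {x : X // x ∈ CohB1.support F ∧ ¬ D' x}

theorem Levels.top_max (L : Levels D D') {F : X.Modules} (hF : P D F) {x : X} (hx' : ¬ D' x) :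
    ∀ y ∈ CohB1.support F, y ⤳ x → y = x := fun y hy h => L.max x y hx' (hF.supp hy) h

theorem Levels.locFin (L : Levels D D') {F : X.Modules} (hF : P D F) (G : Top D' F → X.Modules)
    (hG : ∀ i, CohB1.support (G i) ⊆ closure {i.1}) : LocFin G := by
  haveI : Coh.IsQCoh F := hF.1.1
  intro x
  obtain ⟨U, hU, hxU⟩ := QCohLib.exists_affine_nhd x
  refine ⟨U, U.isOpen.mem_nhds hxU, ((AssPointLib.finite_assPoints hF.1.2 U hU.isCompact).preimage
    Subtype.val_injective.injOn).subset ?_⟩
  rintro i ⟨y, hy, hyU⟩
  exact ⟨(specializes_iff_mem_closure.2 (hG i hy)).mem_open U.isOpen hyU,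
    AssPointLib.weak_of_maximal i.2.1 (L.top_max hF i.2.2)⟩

theorem Levels.eq_of_mem (L : Levels D D') {F : X.Modules} (hF : P D F) (G : Top D' F → X.Modules)
    (hG : ∀ i, CohB1.support (G i) ⊆ closure {i.1}) {x : X} (hx' : ¬ D' x) {i : Top D' F}
    (hi : x ∈ CohB1.support (G i)) : i.1 = x :=
  L.top_max hF hx' i.1 i.2.1 (specializes_iff_mem_closure.2 (hG i hi))

theorem Levels.length_ne_top (L : Levels D D') {F : X.Modules} (hF : P D F) {x : X} (hx' : ¬ D' x) :
    Module.length (X.presheaf.stalk x) ((St x).obj F) ≠ ⊤ := by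
  by_cases hx : x ∈ CohB1.support F
  · exact ((Groth.Agent.S1916.result X F hF.1).2 x (nontrivial_iff_mem.2 hx)
      fun y hy h => L.top_max hF hx' y (nontrivial_iff_mem.1 hy) h).ne
  · haveI : Subsingleton ((St x).obj F) := not_not.mp hx
    rw [Module.length_eq_zero]
    exact ENat.zero_ne_top

theorem Levels.isQCoh_sky (L : Levels D D') {F : X.Modules} (hF : P D F) {x : X} (hx' : ¬ D' x) :
    Coh.IsQCoh (skyObj x ((St x).obj F)) :=
  CycK0Lib.isQCoh_sky x _ fun _ hr => exists_pow_smul_eq_zero (L.length_ne_top hF hx') hr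

variable {A : Type v} [AddCommGroup A] {φ : X.Modules → A}

/-- Modules with isomorphic stalks at the top points have the same class modulo the lower level. -/
theorem Levels.eq_of_stalkIso (L : Levels D D') (h : AddOn D φ) (hφ : ∀ F, P D' F → φ F = 0) {F G : X.Modules}
    (hF : P D F) (hG : P D G) (e : ∀ x, ¬ D' x → Nonempty ((St x).obj F ≅ (St x).obj G)) : φ F = φ G := by
  let S : Top D' F → X.Modules := fun i => skyObj i.1 ((St i.1).obj G)
  have hS : ∀ i, CohB1.support (S i) ⊆ closure {i.1} := fun i => support_sky _ _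
  have hLF := L.locFin hF S hS
  haveI hSq : Coh.IsQCoh (∐ S) := QCohLib.isQCoh_sigma S fun i => L.isQCoh_sky hG i.2.2
  let a := sigmaLift hLF fun i => skyLift i.1 (e i.1 i.2.2).some.hom
  let b := sigmaLift hLF fun i => skyLift (M := G) i.1 (𝟙 _)
  let ψ : F ⊞ G ⟶ ∐ S := biprod.fst ≫ a - biprod.snd ≫ b
  have hK : P D (kernel ψ) := (hF.biprod hG).kernel ψ hSq
  let p : kernel ψ ⟶ F := kernel.ι ψ ≫ biprod.fst
  let q : kernel ψ ⟶ G := kernel.ι ψ ≫ biprod.snd
  have key : ∀ x, ¬ D' x → Function.Bijective ((St x).map p).hom ∧ Function.Bijective ((St x).map q).hom := by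
    intro x hx'
    by_cases hx : x ∈ CohB1.support F
    · have h0 : ∀ i, x ∈ CohB1.support (S i) → i = ⟨x, hx, hx'⟩ := fun i hi =>
        Subtype.ext (L.eq_of_mem hF S hS hx' hi)
      have ha : Function.Bijective ((St x).map a).hom := lift_bijective hLF _ _ h0
        (skyLift_bijective x _ (ConcreteCategory.bijective_of_isIso (e x hx').some.hom))
      have hb : Function.Bijective ((St x).map b).hom := lift_bijective hLF _ _ h0
        (skyLift_bijective x _ Function.bijective_id)
      have hψ : ∀ w, ((St x).map ψ).hom w = ((St x).map a).hom (((St x).map biprod.fst).hom w) -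
          ((St x).map b).hom (((St x).map biprod.snd).hom w) := fun w => by
        simp only [ψ, Functor.map_sub, Functor.map_comp, ModuleCat.hom_sub, LinearMap.sub_apply,
          ModuleCat.hom_comp, LinearMap.comp_apply]
      have hrel : ∀ k, ((St x).map a).hom (((St x).map p).hom k) = ((St x).map b).hom (((St x).map q).hom k) := by
        intro k
        have h1 := hψ (((St x).map (kernel.ι ψ)).hom k)
        rw [← LinearMap.comp_apply, ← ModuleCat.hom_comp, ← Functor.map_comp, kernel.condition, Functor.map_zero,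
          ModuleCat.hom_zero, LinearMap.zero_apply, eq_comm, sub_eq_zero] at h1
        simp only [p, q, Functor.map_comp, ModuleCat.hom_comp, LinearMap.comp_apply]
        exact h1
      have hinj : ∀ k, ((St x).map p).hom k = 0 → ((St x).map q).hom k = 0 → k = 0 := fun k h1 h2 => by
        refine kernel_ι_injective ψ x ((DevissLib.biprod_ext x _ ?_ ?_).trans (map_zero _).symm)
        · rw [← LinearMap.comp_apply, ← ModuleCat.hom_comp, ← Functor.map_comp]; exact h1
        · rw [← LinearMap.comp_apply, ← ModuleCat.hom_comp, ← Functor.map_comp]; exact h2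
      have hsur : ∀ f g, ((St x).map a).hom f = ((St x).map b).hom g →
          ∃ k, ((St x).map p).hom k = f ∧ ((St x).map q).hom k = g := fun f g hfg => by
        let w := ((St x).map (biprod.inl : F ⟶ F ⊞ G)).hom f + ((St x).map (biprod.inr : G ⟶ F ⊞ G)).hom g
        have hw1 : ((St x).map biprod.fst).hom w = f := by
          simp only [w, map_add, ← LinearMap.comp_apply, ← ModuleCat.hom_comp, ← Functor.map_comp, biprod.inl_fst,
            biprod.inr_fst, CategoryTheory.Functor.map_id, Functor.map_zero, ModuleCat.hom_id, ModuleCat.hom_zero,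
            LinearMap.id_apply, LinearMap.zero_apply, add_zero]
        have hw2 : ((St x).map biprod.snd).hom w = g := by
          simp only [w, map_add, ← LinearMap.comp_apply, ← ModuleCat.hom_comp, ← Functor.map_comp, biprod.inl_snd,
            biprod.inr_snd, CategoryTheory.Functor.map_id, Functor.map_zero, ModuleCat.hom_id, ModuleCat.hom_zero,
            LinearMap.id_apply, LinearMap.zero_apply, zero_add]
        obtain ⟨k, hk⟩ := map_kernel_exact ψ x (a := w) (by rw [hψ, hw1, hw2, hfg, sub_self])
        refine ⟨k, ?_, ?_⟩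
        · simp only [p, Functor.map_comp, ModuleCat.hom_comp, LinearMap.comp_apply, hk, hw1]
        · simp only [q, Functor.map_comp, ModuleCat.hom_comp, LinearMap.comp_apply, hk, hw2]
      refine ⟨⟨(injective_iff_map_eq_zero _).2 fun k hk => hinj k hk (hb.1 ?_), fun f => ?_⟩,
        ⟨(injective_iff_map_eq_zero _).2 fun k hk => hinj k (ha.1 ?_) hk, fun g => ?_⟩⟩
      · rw [← hrel, hk, map_zero, map_zero]
      · obtain ⟨g, hg⟩ := hb.2 (((St x).map a).hom f)
        obtain ⟨k, hk, -⟩ := hsur f g hg.symm
        exact ⟨k, hk⟩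
      · rw [hrel, hk, map_zero, map_zero]
      · obtain ⟨f, hf⟩ := ha.2 (((St x).map b).hom g)
        obtain ⟨k, -, hk⟩ := hsur f g hf
        exact ⟨k, hk⟩
    · haveI hF0 : Subsingleton ((St x).obj F) := not_not.mp hx
      haveI hG0 : Subsingleton ((St x).obj G) := (e x hx').some.toLinearEquiv.symm.toEquiv.subsingleton
      haveI : Subsingleton ((St x).obj (kernel ψ)) := ⟨fun k k' => kernel_ι_injective ψ x <| by
        rw [← sub_eq_zero, ← map_sub]
        exact DevissLib.biprod_ext x _ (Subsingleton.elim _ _) (Subsingleton.elim _ _)⟩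
      exact ⟨⟨fun _ _ _ => Subsingleton.elim _ _, fun f => ⟨0, Subsingleton.elim _ _⟩⟩,
        ⟨fun _ _ _ => Subsingleton.elim _ _, fun f => ⟨0, Subsingleton.elim _ _⟩⟩⟩
  have hp := h.of_negligible L.le hφ p hK hF
    (fun x hx => by_contra fun hx' => DevissLib.notMem_support_kernel p x (key x hx').1.1 hx)
    (fun x hx => by_contra fun hx' => DevissLib.notMem_support_cokernel p x (key x hx').1.2 hx)
  have hq := h.of_negligible L.le hφ q hK hG
    (fun x hx => by_contra fun hx' => DevissLib.notMem_support_kernel q x (key x hx').2.1 hx)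
    (fun x hx => by_contra fun hx' => DevissLib.notMem_support_cokernel q x (key x hx').2.2 hx)
  exact hp.symm.trans hq

end CycK0Lib

end
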