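import Groth.Agent.CycK0Lib.Sigma

/-!
# Morphisms into locally finite coproducts, given componentwise
-/

set_option autoImplicit false
set_option linter.style.haveILetI false
set_option linter.unusedSectionVars false

universe u

open CategoryTheory CategoryTheory.Limits AlgebraicGeometry TopologicalSpace Opposite

noncomputable section

namespace CycK0Lib

open DevissLib (St)

variable {X : Scheme.{u}} {I : Type u} {F : I → X.Modules}

variable (F) in
/-- The comparison from the coproduct to the product. -/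
def toPi : ∐ F ⟶ ∏ᶜ F := Pi.lift (proj F)

theorem toPi_π (i : I) : toPi F ≫ Pi.π F i = proj F i := Pi.lift_π _ _

theorem pi_section_ext (V : X.Opens) (a b : Γ(∏ᶜ F, V))
    (h : ∀ i, (Pi.π F i).app V a = (Pi.π F i).app V b) : a = b := by
  let G := Scheme.Modules.toPresheaf X ⋙ (CategoryTheory.evaluation (Opens X)ᵒᵖ AddCommGrpCat.{u}).obj (op V)
  haveI : PreservesLimitsOfShape (Discrete I) ((CategoryTheory.evaluation (Opens X)ᵒᵖ AddCommGrpCat.{u}).obj (op V)) :=
    inferInstance
  haveI : PreservesLimitsOfShape (Discrete I) (Scheme.Modules.toPresheaf X) := inferInstance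
  haveI : PreservesLimit (Discrete.functor F) G := comp_preservesLimit _ _
  exact Concrete.limit_ext _ _ _ |> fun e =>
    (ConcreteCategory.bijective_of_isIso ((PreservesProduct.iso G F).hom)).1
      (e fun j => by
        obtain ⟨i⟩ := j
        exact (congr($(piComparison_comp_π G F i) a)).trans ((h i).trans (congr($(piComparison_comp_π G F i) b)).symm))

theorem exists_section (V : X.Opens) {S : Finset I} (hS : ∀ y ∈ V, ∀ i ∉ S, y ∉ CohB1.support (F i))
    (t : Γ(∏ᶜ F, V)) : ∃ a : Γ(∐ F, V), (toPi F).app V a = t := by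
  classical
  refine ⟨∑ i ∈ S, (Sigma.ι F i).app V ((Pi.π F i).app V t), pi_section_ext V _ _ fun j => ?_⟩
  by_cases hj : j ∈ S
  · show ((toPi F ≫ Pi.π F j).app V) _ = _
    rw [toPi_π, map_sum, Finset.sum_eq_single_of_mem j hj fun i _ hi => ?_]
    · show (Sigma.ι F j ≫ proj F j).app V _ = _
      rw [ι_proj_self]
      rfl
    · show (Sigma.ι F i ≫ proj F j).app V _ = _
      rw [ι_proj_ne F hi]
      rfl
  · exact TopCat.Presheaf.section_ext ((QCohLib.toAbF X).obj (F j) : TopCat.Sheaf AddCommGrpCat.{u} X.toTopCat) V _ _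
      fun p hp => @Subsingleton.elim _ (not_not.mp (hS p hp j hj)) _ _

theorem isIso_toPi (hF : LocFin F) : IsIso (toPi F) := by
  refine KFlatLib.isIso_of_stalks _ fun x => ?_
  obtain ⟨U, S, hU, hxU, hS⟩ := exists_finset hF x
  rw [ConcreteCategory.isIso_iff_bijective]
  constructor
  · intro a b e
    refine (stalkEquiv (hS x hxU)).injective (funext fun i => ?_)
    rw [stalkEquiv_apply, stalkEquiv_apply, ← toPi_π, Functor.map_comp]
    exact congrArg ((St x).map (Pi.π F i.1)).hom e
  · intro b
    obtain ⟨W, hxW, t, rfl⟩ := DevissLib.exists_gm_eq _ x b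
    obtain ⟨a, ha⟩ := exists_section (W ⊓ U) (fun y hy => hS y hy.2)
      ((∏ᶜ F).presheaf.map (homOfLE inf_le_left).op t)
    refine ⟨DevissLib.gm _ x (show x ∈ W ⊓ U from ⟨hxW, hxU⟩) a, ?_⟩
    refine (DevissLib.gm_app _ x (show x ∈ W ⊓ U from ⟨hxW, hxU⟩) a).trans ?_
    rw [ha]
    exact DevissLib.gm_map _ inf_le_left x ⟨hxW, hxU⟩ t

/-- The morphism into a locally finite coproduct with given components. -/
def sigmaLift (hF : LocFin F) {M : X.Modules} (g : ∀ i, M ⟶ F i) : M ⟶ ∐ F :=
  haveI := isIso_toPi hF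
  Pi.lift g ≫ inv (toPi F)

theorem sigmaLift_proj (hF : LocFin F) {M : X.Modules} (g : ∀ i, M ⟶ F i) (i : I) :
    sigmaLift hF g ≫ proj F i = g i := by
  haveI := isIso_toPi hF
  rw [sigmaLift, Category.assoc, ← toPi_π, IsIso.inv_hom_id_assoc, Pi.lift_π]

end CycK0Lib

end
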