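import Groth.Agent.CycK0Lib.Family

/-!
# Rescaling the embedding of a line
-/

set_option autoImplicit false
set_option linter.style.haveILetI false
set_option linter.unusedSectionVars false

universe u v

open CategoryTheory CategoryTheory.Limits AlgebraicGeometry TopologicalSpace Opposite

noncomputable section

namespace CycK0Lib

open DevissLib (St)
open KFlatLib (skyObj skyVal skyMod)

variable {X : Scheme.{u}}

/-- Multiplication by a nonzero element of the residue field. -/
def scale (ξ : X) (c : X.residueField ξ) (hc : c ≠ 0) : kmod ξ ≅ kmod ξ :=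
  LinearEquiv.toModuleIso
    { toFun := fun z => (show X.residueField ξ from c * (show X.residueField ξ from z))
      invFun := fun z => (show X.residueField ξ from c⁻¹ * (show X.residueField ξ from z))
      map_add' := fun z w => mul_add c (show X.residueField ξ from z) (show X.residueField ξ from w)
      map_smul' := fun r z => by
        refine Eq.trans ?_ (kmod_smul ξ r _).symm
        rw [kmod_smul]
        exact mul_left_comm _ _ _
      left_inv := fun z => inv_mul_cancel_left₀ hc (show X.residueField ξ from z)
      right_inv := fun z => mul_inv_cancel_left₀ hc (show X.residueField ξ from z) }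

/-- The line, embedded with the unit section going to `c`. -/
def aN (ξ : X) (c : X.residueField ξ) (hc : c ≠ 0) : N ξ ⟶ skyObj ξ (kmod ξ) :=
  bN ξ ≫ ((skyMod ξ).mapIso (scale ξ c hc)).hom

instance mono_aN (ξ : X) (c : X.residueField ξ) (hc : c ≠ 0) : Mono (aN ξ c hc) := mono_comp _ _

theorem val_aN {ξ y : X} (c : X.residueField ξ) (hc : c ≠ 0) (h : ξ ⤳ y) {U : X.Opens} (hy : y ∈ U) :
    val (aN ξ c hc) h ((N ξ).presheaf.germ U y hy (uSec ξ U)) = c := by
  refine (val_germ _ h _ _).trans ?_
  refine (KFlatLib.skyMod_map_app ξ (scale ξ c hc).hom _ _).trans ?_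
  refine (congrArg (scale ξ c hc).hom.hom (bN_uSec ξ _)).trans ?_
  exact mul_one c

end CycK0Lib

end
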