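import Groth.Agent.CycK0Lib.Graph

/-!
# Reduction to modules with semisimple stalks at the top points
-/

set_option autoImplicit false
set_option linter.style.haveILetI false
set_option linter.unusedSectionVars false

universe u v

open CategoryTheory CategoryTheory.Limits AlgebraicGeometry TopologicalSpace Opposite
open IsLocalRing (maximalIdeal)

noncomputable section

namespace CycK0Lib

open DevissLib (St)
open KFlatLib (skyObj skyLift skyMod skyCounit)

variable {X : Scheme.{u}} {D D' : X → Prop} [IsLocallyNoetherian X]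

/-- The stalk of a map on skyscrapers. -/
theorem skyMod_map_counit (x : X) {A B : ModuleCat.{u} (X.presheaf.stalk x)} (g : A ⟶ B)
    (p : (St x).obj (skyObj x A)) :
    (skyCounit x B).hom.hom (((St x).map ((skyMod x).map g)).hom p) = g.hom ((skyCounit x A).hom.hom p) := by
  rw [KFlatLib.skyMod_map]
  exact congr($(KFlatLib.skyLift_counit x ((skyCounit x A).hom ≫ g)).hom p)

variable (A' : ∀ x : X, ModuleCat.{u} (X.presheaf.stalk x))

/-- The quotient of the stalk module by a power of the maximal ideal. -/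
abbrev quot (x : X) (n : ℕ) : ModuleCat.{u} (X.presheaf.stalk x) :=
  ModuleCat.of _ (A' x ⧸ ((maximalIdeal (X.presheaf.stalk x)) ^ n • (⊤ : Submodule (X.presheaf.stalk x) (A' x))))

/-- The projection onto the quotient. -/
abbrev quotMk (x : X) (n : ℕ) : A' x ⟶ quot A' x n :=
  ModuleCat.ofHom (Submodule.mkQ _)

theorem exists_semisimple (L : Levels D D') {F : X.Modules} (hF : P D F) :
    ∃ Q : X.Modules, P D Q ∧
      (∀ x, ¬ D' x → ∀ r ∈ maximalIdeal (X.presheaf.stalk x), ∀ a : (St x).obj Q, r • a = 0) ∧
      ∀ {B : Type (u + 1)} [AddCommGroup B] (φ : X.Modules → B), AddOn D φ → (∀ G, P D' G → φ G = 0) → φ F = φ Q := by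
  let A : ∀ x : X, ModuleCat.{u} (X.presheaf.stalk x) := fun x => (St x).obj F
  let I := Top D' F
  let S₀ : I → X.Modules := fun i => skyObj i.1 (A i.1)
  have hS₀ : ∀ i, CohB1.support (S₀ i) ⊆ closure {i.1} := fun i => support_sky _ _
  have hLF₀ : LocFin S₀ := L.locFin hF S₀ hS₀
  haveI hq₀ : Coh.IsQCoh (∐ S₀) := QCohLib.isQCoh_sigma S₀ fun i => L.isQCoh_sky hF i.2.2
  let σ := sigmaLift hLF₀ fun i => skyLift (M := F) i.1 (𝟙 _)
  have hσ : ∀ x, ¬ D' x → Function.Injective ((St x).map σ).hom := by
    intro x hx'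
    by_cases hx : x ∈ CohB1.support F
    · have h0 : ∀ i, x ∈ CohB1.support (S₀ i) → i = ⟨x, hx, hx'⟩ := fun i hi =>
        Subtype.ext (L.eq_of_mem hF S₀ hS₀ hx' hi)
      have hb : Function.Bijective ((St x).map σ).hom := lift_bijective hLF₀ _ _ h0
        (skyLift_bijective x _ Function.bijective_id)
      exact hb.1
    · haveI : Subsingleton ((St x).obj F) := not_not.mp hx
      exact fun _ _ _ => Subsingleton.elim _ _
  let F' := Abelian.image σ
  let ι' : F' ⟶ ∐ S₀ := Abelian.image.ι σ
  have hF'supp : ∀ x ∈ CohB1.support F', D x := fun x hx =>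
    hF.supp (DevissLib.support_epi (Abelian.factorThruImage σ) hx)
  haveI : Coh.IsQCoh F := hF.1.1
  have hF'q : Coh.IsQCoh F' := QCohLib.isQCoh_image σ
  have hF' : P D F' := P.mk ⟨hF'q, QCohLib.isFT_of_epi (Abelian.factorThruImage σ) hF.1.2⟩ hF'supp
  -- the filtration
  let Sn : ℕ → I → X.Modules := fun n i => skyObj i.1 (quot A i.1 n)
  have hSn : ∀ n i, CohB1.support (Sn n i) ⊆ closure {i.1} := fun n i => support_sky _ _
  have hLFn : ∀ n, LocFin (Sn n) := fun n => L.locFin hF (Sn n) (hSn n)
  let τ : ∀ n i, S₀ i ⟶ Sn n i := fun n i => (skyMod i.1).map (quotMk A i.1 n)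
  have hqn : ∀ n, Coh.IsQCoh (∐ Sn n) := fun n => QCohLib.isQCoh_sigma (Sn n) fun i => isQCoh_sky _ _ fun r hr => by
    obtain ⟨m, hm⟩ := exists_pow_smul_eq_zero (L.length_ne_top hF i.2.2) hr
    refine ⟨m, fun a => ?_⟩
    obtain ⟨a, rfl⟩ := Submodule.mkQ_surjective _ a
    rw [← map_smul, hm a, map_zero]
  let μ : ∀ n, F' ⟶ ∐ Sn n := fun n => ι' ≫ Limits.Sigma.map (τ n)
  let G : ℕ → X.Modules := fun n => kernel (μ n)
  let ν : ∀ n i, Sn (n + 1) i ⟶ Sn n i := fun n i => (skyMod i.1).map (ModuleCat.ofHom
    (Submodule.factor (Submodule.smul_mono_left (Ideal.pow_le_pow_right (Nat.le_succ n)))))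
  have hν : ∀ n, μ n = μ (n + 1) ≫ Limits.Sigma.map (ν n) := fun n => by
    simp only [μ, Category.assoc]
    congr 1
    refine Sigma.hom_ext _ _ fun i => ?_
    rw [Sigma.ι_map, Sigma.ι_map_assoc, Sigma.ι_map, ← Category.assoc]
    congr 1
    show (skyMod i.1).map _ = (skyMod i.1).map _ ≫ (skyMod i.1).map _
    rw [← Functor.map_comp]
    congr 1
  let g : ∀ n, G (n + 1) ⟶ G n := fun n => kernel.lift (μ n) (kernel.ι (μ (n + 1)))
    (by rw [hν n, kernel.condition_assoc, zero_comp])
  haveI : ∀ n, Mono (g n) := fun n => mono_of_mono_fac (kernel.lift_ι _ _ _)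
  have hG : ∀ n, P D (G n) := fun n => hF'.kernel _ (hqn n)
  have hμ0 : μ 0 = 0 := by
    simp only [μ]
    rw [show Limits.Sigma.map (τ 0) = 0 from Sigma.hom_ext _ _ fun i => ?_, comp_zero]
    rw [Sigma.ι_map, comp_zero]
    have : quotMk A i.1 0 = 0 := by
      refine ModuleCat.hom_ext (LinearMap.ext fun a => ?_)
      show Submodule.mkQ _ a = 0
      rw [Submodule.mkQ_apply, Submodule.Quotient.mk_eq_zero, pow_zero, Ideal.one_eq_top, Submodule.top_smul]
      trivial
    simp only [τ]
    rw [this, Functor.map_zero]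
    exact zero_comp
  -- the filtration is locally finite
  have hLF : LocFin (fam G) := by
    intro x
    obtain ⟨U, S, -, hxU, hS⟩ := exists_finset hLF₀ x
    choose N hN using fun i : I => exists_maximalIdeal_pow_smul (L.length_ne_top hF i.2.2)
    refine ⟨U, U.isOpen.mem_nhds hxU, ((Set.finite_lt_nat (S.sup N + 1)).preimage
      ULift.down_injective.injOn).subset ?_⟩
    rintro n ⟨y, hy, hyU⟩
    show n.down < S.sup N + 1
    by_contra hn
    refine DevissLib.notMem_support_kernel (μ n.down) y ?_ hy
    simp only [μ, Functor.map_comp, ModuleCat.hom_comp]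
    refine Function.Injective.comp (g := ((St y).map (Limits.Sigma.map (τ n.down))).hom) ?_
      ((ModuleCat.mono_iff_injective ((St y).map ι')).mp inferInstance)
    intro a b hab
    refine stalk_ext hLF₀ fun i hi => ?_
    have hiS : i ∈ S := by_contra fun h => hS y hyU i h hi
    have hle : N i ≤ n.down := (Finset.le_sup hiS).trans (by omega)
    have hbot : (maximalIdeal (X.presheaf.stalk i.1)) ^ n.down • (⊤ : Submodule (X.presheaf.stalk i.1) (A i.1)) = ⊥ :=
      le_bot_iff.1 ((Submodule.smul_mono_left (Ideal.pow_le_pow_right hle)).trans (hN i).le)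
    haveI : IsIso (quotMk A i.1 n.down) := by
      rw [ConcreteCategory.isIso_iff_bijective]
      refine ⟨?_, Submodule.mkQ_surjective _⟩
      show Function.Injective (Submodule.mkQ _)
      rw [← LinearMap.ker_eq_bot, Submodule.ker_mkQ, hbot]
    haveI : IsIso (τ n.down i) := inferInstanceAs (IsIso ((skyMod i.1).map _))
    refine (ConcreteCategory.bijective_of_isIso ((St y).map (τ n.down i))).1 ?_
    show ((St y).map (τ n.down i)).hom _ = ((St y).map (τ n.down i)).hom _
    rw [← LinearMap.comp_apply, ← LinearMap.comp_apply, ← ModuleCat.hom_comp, ← Functor.map_comp, ← map_proj]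
    simp only [Functor.map_comp, ModuleCat.hom_comp, LinearMap.comp_apply]
    rw [hab]
  let Q := ∐ fam fun n => cokernel (g n)
  have hQLF : LocFin (fam fun n => cokernel (g n)) :=
    hLF.mono fun n => DevissLib.support_epi (cokernel.π (g n.down))
  refine ⟨Q, P.sigma hQLF fun n => (hG _).cokernel _ (hG _).1.1, fun x hx' r hr a => ?_, fun φ h hφ => ?_⟩
  · -- the graded pieces are killed by the maximal ideal
    refine stalk_ext hQLF fun n _ => ?_
    rw [map_smul, map_zero]
    obtain ⟨b, hb⟩ := (ModuleCat.epi_iff_surjective ((St x).map (cokernel.π (g n.down)))).mp inferInstance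
      (((St x).map (proj (fam fun n => cokernel (g n)) n)).hom a)
    rw [← hb, ← map_smul]
    have hker : ((St x).map (μ (n.down + 1))).hom (r • ((St x).map (kernel.ι (μ n.down))).hom b) = 0 := by
      have hb0 : ((St x).map (μ n.down)).hom (((St x).map (kernel.ι (μ n.down))).hom b) = 0 := by
        rw [← LinearMap.comp_apply, ← ModuleCat.hom_comp, ← Functor.map_comp, kernel.condition, Functor.map_zero]
        rfl
      simp only [μ, Functor.map_comp, ModuleCat.hom_comp, LinearMap.comp_apply] at hb0 ⊢
      generalize hw : ((St x).map ι').hom (((St x).map (kernel.ι (μ n.down))).hom b) = w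
      rw [map_smul ((St x).map ι').hom, hw]
      simp only [μ] at hw
      rw [hw] at hb0
      refine stalk_ext (hLFn _) fun i hi => ?_
      obtain rfl := L.eq_of_mem hF (Sn (n.down + 1)) (hSn _) hx' hi
      have comp : ∀ m c, (skyCounit i.1 (quot A i.1 m)).hom.hom
          (((St i.1).map (proj (Sn m) i)).hom (((St i.1).map (Limits.Sigma.map (τ m))).hom c)) =
            (quotMk A i.1 m).hom ((skyCounit i.1 (A i.1)).hom.hom (((St i.1).map (proj S₀ i)).hom c)) := by
        intro m c
        rw [← LinearMap.comp_apply ((St i.1).map (proj (Sn m) i)).hom, ← ModuleCat.hom_comp, ← Functor.map_comp,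
          map_proj, Functor.map_comp, ModuleCat.hom_comp, LinearMap.comp_apply]
        exact skyMod_map_counit i.1 _ _
      rw [map_zero]
      refine (ConcreteCategory.bijective_of_isIso (skyCounit i.1 (quot A i.1 (n.down + 1))).hom).1 ?_
      show (skyCounit i.1 (quot A i.1 (n.down + 1))).hom.hom _ = (skyCounit i.1 (quot A i.1 (n.down + 1))).hom.hom 0
      rw [comp, map_smul, map_smul, map_zero]
      have h2 := comp n.down w
      rw [hb0, map_zero, map_zero] at h2
      show Submodule.mkQ _ (r • _) = 0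
      rw [Submodule.mkQ_apply, Submodule.Quotient.mk_eq_zero, pow_succ', Submodule.mul_smul]
      exact Submodule.smul_mem_smul hr ((Submodule.Quotient.mk_eq_zero _).1 h2.symm)
    obtain ⟨c, hc⟩ := map_kernel_exact (μ (n.down + 1)) x hker
    have hc' : ((St x).map (g n.down)).hom c = r • b := kernel_ι_injective (μ n.down) x (by
      rw [map_smul, ← hc, ← LinearMap.comp_apply, ← ModuleCat.hom_comp, ← Functor.map_comp, kernel.lift_ι])
    rw [← hc', ← LinearMap.comp_apply, ← ModuleCat.hom_comp, ← Functor.map_comp, cokernel.condition, Functor.map_zero]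
    rfl
  · have h1 : φ F = φ F' := h.of_negligible L.le hφ (Abelian.factorThruImage σ) hF hF'
      (fun x hx => by_contra fun hx' => DevissLib.notMem_support_kernel _ x (fun a b e => hσ x hx' (by
        rw [show σ = Abelian.factorThruImage σ ≫ ι' from (Abelian.image.fac σ).symm, Functor.map_comp,
          ModuleCat.hom_comp, LinearMap.comp_apply, LinearMap.comp_apply, e])) hx)
      (fun x hx => absurd hx (DevissLib.notMem_support_cokernel _ x ((ModuleCat.epi_iff_surjective _).mp inferInstance)))
    haveI : IsIso (kernel.ι (μ 0)) := by rw [hμ0]; infer_instance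
    rw [h1, ← h.swindle g hLF hG]
    exact (h.iso (asIso (kernel.ι (μ 0))) (hG 0)).symm

end CycK0Lib

end
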