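import Groth.Agent.CycK0Lib.Add
import Groth.Agent.KFlatLib.Sky
import Mathlib.RingTheory.Length

/-!
# Quasi-coherent skyscrapers and finite-length stalks
-/

set_option autoImplicit false
set_option linter.style.haveILetI false
set_option linter.unusedSectionVars false

universe u

open CategoryTheory CategoryTheory.Limits AlgebraicGeometry TopologicalSpace Opposite
open IsLocalRing (maximalIdeal)

noncomputable section

namespace CycK0Lib

section Algebra

variable {R : Type u} [CommRing R] [IsLocalRing R] {M : Type u} [AddCommGroup M] [Module R M]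

/-- Finite-length modules are killed by a power of the maximal ideal, elementwise. -/
theorem exists_pow_smul_eq_zero (h : Module.length R M ≠ ⊤) {r : R} (hr : r ∈ maximalIdeal R) :
    ∃ n : ℕ, ∀ a : M, r ^ n • a = 0 := by
  obtain ⟨hN, hA⟩ := isFiniteLength_iff_isNoetherian_isArtinian.1 (Module.length_ne_top_iff.1 h)
  obtain ⟨n, hn⟩ := IsArtinian.monotone_stabilizes (R := R) (M := M)
    ⟨fun n => OrderDual.toDual (LinearMap.range (LinearMap.lsmul R M (r ^ n))), fun a b hab => by
      rintro _ ⟨m, rfl⟩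
      refine ⟨r ^ (b - a) • m, ?_⟩
      simp [smul_smul, ← pow_add, Nat.sub_add_cancel hab]⟩
  refine ⟨n, fun a => ?_⟩
  have h1 : r ^ n • a ∈ LinearMap.range (LinearMap.lsmul R M (r ^ n)) := ⟨a, rfl⟩
  have key : LinearMap.range (LinearMap.lsmul R M (r ^ n)) = ⊥ := by
    refine Submodule.eq_bot_of_le_smul_of_le_jacobson_bot (Ideal.span {r}) _ (IsNoetherian.noetherian _) ?_ ?_
    · have e : LinearMap.range (LinearMap.lsmul R M (r ^ n)) = LinearMap.range (LinearMap.lsmul R M (r ^ (n + 1))) :=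
        hn (n + 1) (Nat.le_succ n)
      conv_lhs => rw [e]
      rintro _ ⟨m, rfl⟩
      rw [LinearMap.lsmul_apply, pow_succ', mul_smul]
      exact Submodule.smul_mem_smul (Ideal.mem_span_singleton_self r) ⟨m, rfl⟩
    · rw [IsLocalRing.jacobson_eq_maximalIdeal _ bot_ne_top, Ideal.span_le, Set.singleton_subset_iff]
      exact hr
  rw [key] at h1
  exact (Submodule.mem_bot _).1 h1

theorem exists_maximalIdeal_pow_smul [IsNoetherianRing R] (h : Module.length R M ≠ ⊤) :
    ∃ n : ℕ, (maximalIdeal R) ^ n • (⊤ : Submodule R M) = ⊥ := by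
  obtain ⟨hN, hA⟩ := isFiniteLength_iff_isNoetherian_isArtinian.1 (Module.length_ne_top_iff.1 h)
  obtain ⟨n, hn⟩ := IsArtinian.monotone_stabilizes (R := R) (M := M)
    ⟨fun n => OrderDual.toDual ((maximalIdeal R) ^ n • (⊤ : Submodule R M)),
      fun a b hab => Submodule.smul_mono_left (Ideal.pow_le_pow_right hab)⟩
  refine ⟨n, Submodule.eq_bot_of_le_smul_of_le_jacobson_bot (maximalIdeal R) _ (IsNoetherian.noetherian _) ?_ ?_⟩
  · have e : (maximalIdeal R) ^ n • (⊤ : Submodule R M) = (maximalIdeal R) ^ (n + 1) • (⊤ : Submodule R M) :=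
      hn (n + 1) (Nat.le_succ n)
    conv_lhs => rw [e, pow_succ']
    rw [Submodule.mul_smul]
  · exact (IsLocalRing.jacobson_eq_maximalIdeal _ bot_ne_top).ge

/-- Modules killed by the maximal ideal are determined by their length. -/
theorem nonempty_equiv_of_killed {N : Type u} [AddCommGroup N] [Module R N]
    (hM : ∀ r ∈ maximalIdeal R, ∀ a : M, r • a = 0) (hN : ∀ r ∈ maximalIdeal R, ∀ a : N, r • a = 0)
    (hl : Module.length R M = Module.length R N) (hfin : Module.length R M ≠ ⊤) : Nonempty (M ≃ₗ[R] N) := by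
  let κ := R ⧸ maximalIdeal R
  letI : Field κ := Ideal.Quotient.field _
  have tM : Module.IsTorsionBySet R M (maximalIdeal R : Set R) := fun a r => hM r r.2 a
  have tN : Module.IsTorsionBySet R N (maximalIdeal R : Set R) := fun a r => hN r r.2 a
  letI : Module κ M := tM.module
  letI : Module κ N := tN.module
  haveI : IsScalarTower R κ M := tM.isScalarTower
  haveI : IsScalarTower R κ N := tN.isScalarTower
  have eM := Module.length_eq_of_surjective (R := κ) (S := R) (M := M) Ideal.Quotient.mk_surjective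
  have eN := Module.length_eq_of_surjective (R := κ) (S := R) (M := N) Ideal.Quotient.mk_surjective
  have hl' : Module.length κ M = Module.length κ N := eM.symm.trans (hl.trans eN)
  have hfin' : Module.length κ M ≠ ⊤ := eM ▸ hfin
  rw [Module.length_eq_rank] at hl' hfin'
  rw [Module.length_eq_rank] at hl'
  obtain ⟨m, hm⟩ := Cardinal.lt_aleph0.1 (Cardinal.toENat_lt_top.1 (lt_top_iff_ne_top.2 hfin'))
  rw [hm, Cardinal.toENat_nat, eq_comm, Cardinal.toENat_eq_nat] at hl'
  obtain ⟨e⟩ := nonempty_linearEquiv_of_rank_eq (R := κ) (M := M) (M₁ := N) (hm.trans hl'.symm)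
  exact ⟨e.restrictScalars R⟩

end Algebra

open DevissLib (St)

variable {X : Scheme.{u}}

theorem support_sky (x : X) (A : ModuleCat.{u} (X.presheaf.stalk x)) :
    CohB1.support (KFlatLib.skyObj x A) ⊆ closure {x} := by
  intro y hy
  by_contra hc
  refine hy ((QCohLib.subsingleton_stalk_iff _ y).2 fun U hyU t => ?_)
  refine ⟨U ⊓ ⟨(closure {x})ᶜ, isClosed_closure.isOpen_compl⟩, inf_le_left, ⟨hyU, hc⟩, ?_⟩
  exact KFlatLib.skyObj_ext x A _ _ fun hx => ((show x ∉ closure ({x} : Set X) from hx.2) (subset_closure (Set.mem_singleton x))).elim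

/-- A skyscraper with nilpotent action of the maximal ideal is quasi-coherent. -/
theorem isQCoh_sky (x : X) (A : ModuleCat.{u} (X.presheaf.stalk x))
    (hA : ∀ r ∈ maximalIdeal (X.presheaf.stalk x), ∃ n : ℕ, ∀ a : A, r ^ n • a = 0) :
    Coh.IsQCoh (KFlatLib.skyObj x A) := by
  rw [QCohLib.isQCoh_iff_localizingAt]
  intro U hU f
  by_cases hxf : x ∈ X.basicOpen f
  · have hxU : x ∈ U := X.basicOpen_le f hxf
    refine ⟨fun s => ⟨0, KFlatLib.skyMk x fun _ => KFlatLib.skyVal x hxf s, ?_⟩, fun t ht => ⟨0, ?_⟩⟩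
    · rw [pow_zero, one_smul]
      exact KFlatLib.skyObj_ext x A _ _ fun _ => rfl
    · rw [pow_zero, one_smul]
      exact KFlatLib.skyObj_ext x A _ _ fun _ => congrArg (KFlatLib.skyVal x hxf) ht
  · refine ⟨fun s => ⟨0, 0, KFlatLib.skyObj_ext x A _ _ fun hx => absurd hx hxf⟩, fun t _ => ?_⟩
    by_cases hxU : x ∈ U
    · have hr : X.presheaf.germ U x hxU f ∈ maximalIdeal (X.presheaf.stalk x) :=
        fun hu => hxf ((X.mem_basicOpen f x hxU).2 hu)
      obtain ⟨n, hn⟩ := hA _ hr
      refine ⟨n, KFlatLib.skyObj_ext x A _ _ fun hx => ?_⟩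
      refine (KFlatLib.skyVal_smul x hx _ t).trans ?_
      rw [map_pow, TopCat.Presheaf.germ_res_apply]
      exact hn _
    · exact ⟨0, KFlatLib.skyObj_ext x A _ _ fun hx => absurd hx hxU⟩

end CycK0Lib

end
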