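import Groth.Agent.CycK0Lib.Family
import Groth.Agent.HilbPolyLib.Twist
import Groth.Agent.KFlatLib.QCohTerms
import Groth.Agent.KFlatLib.StalkTensor

/-!
# Twisting a line on a closure by an invertible module
-/

set_option autoImplicit false
set_option linter.style.haveILetI false
set_option linter.unusedSectionVars false

universe u v

open CategoryTheory CategoryTheory.Limits AlgebraicGeometry TopologicalSpace Opposite MonoidalCategory
open scoped TensorProduct

noncomputable section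

namespace CycK0Lib

open DevissLib (St)
open KFlatLib (skyObj skyLift skyCounit stalkTensorIso tens)

variable {X : Scheme.{u}} {L : X.Modules} {ξ : X}

/-- The coordinate with respect to a rational section, reduced at the point. -/
theorem exists_chi (hL : PicF.IsInvertible L) {s : Cyc.secFibre L ξ} (hs : s ≠ 0) :
    ∃ χ : (St ξ).obj L →ₗ[X.presheaf.stalk ξ] kmod ξ, ∀ (U : X.Opens) (e : Γ(L, U)) (hξ : ξ ∈ U),
      AmpleLib.GenOn L e → ∀ φ : X.presheaf.stalk ξ, s = φ • CycC1Lib.fib L (L.presheaf.germ U ξ hξ e) →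
        X.residue ξ φ * (show X.residueField ξ from χ (L.presheaf.germ U ξ hξ e)) = 1 := by
  obtain ⟨U₀, e₀, hξ₀, he₀⟩ := TwistLib.exists_genOn hL ξ
  have hgen := he₀.genAt hξ₀
  obtain ⟨φ₀, hφ₀⟩ := CycC1Lib.exists_coord hgen s
  have hne := CycC1Lib.residue_coord_ne_zero hgen hs hφ₀
  let ev : X.presheaf.stalk ξ →ₗ[X.presheaf.stalk ξ] (St ξ).obj L :=
    LinearMap.toSpanSingleton _ ((St ξ).obj L) (L.presheaf.germ U₀ ξ hξ₀ e₀)
  let eq := LinearEquiv.ofBijective ev hgen
  let sc : X.presheaf.stalk ξ →ₗ[X.presheaf.stalk ξ] kmod ξ :=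
    LinearMap.toSpanSingleton _ (kmod ξ) (show X.residueField ξ from (X.residue ξ φ₀)⁻¹)
  refine ⟨sc ∘ₗ eq.symm.toLinearMap, fun U e hξ _ φ hφ => ?_⟩
  obtain ⟨r, hr⟩ : ∃ r, eq r = L.presheaf.germ U ξ hξ e := ⟨_, eq.apply_symm_apply _⟩
  have h1 : X.residue ξ (φ * r) = X.residue ξ φ₀ := by
    refine CycC1Lib.residue_coord_unique hgen ?_
    rw [← hφ₀, hφ, mul_smul]
    congr 1
    rw [CycC1Lib.fib, CycC1Lib.fib, ← Submodule.Quotient.mk_smul]
    exact congrArg _ hr
  have h2 : (show X.residueField ξ from (sc ∘ₗ eq.symm.toLinearMap) (L.presheaf.germ U ξ hξ e)) =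
      X.residue ξ r * (X.residue ξ φ₀)⁻¹ := by
    show (show X.residueField ξ from sc (eq.symm (L.presheaf.germ U ξ hξ e))) = _
    rw [← hr, LinearEquiv.symm_apply_apply]
    exact kmod_smul ξ r _
  rw [h2, ← mul_assoc, ← map_mul, h1, mul_inv_cancel₀ hne]

/-- Every germ of the twisted line is a multiple of the pure tensor of the generators. -/
theorem exists_smul_tmul {y : X} {U : X.Opens} (hy : y ∈ U) {e : Γ(L, U)} (he : AmpleLib.GenOn L e)
    (z : (St y).obj (N ξ) ⊗[X.presheaf.stalk y] (St y).obj L) :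
    ∃ c : X.presheaf.stalk y, c • (((N ξ).presheaf.germ U y hy (uSec ξ U) : (St y).obj (N ξ)) ⊗ₜ[X.presheaf.stalk y]
      (L.presheaf.germ U y hy e : (St y).obj L)) = z := by
  induction z using TensorProduct.induction_on with
  | zero => exact ⟨0, zero_smul _ _⟩
  | tmul n l =>
    obtain ⟨r, rfl⟩ := exists_smul_uSec hy n
    obtain ⟨t, rfl⟩ := (he.genAt hy).2 l
    exact ⟨r * t, (TensorProduct.smul_tmul_smul r t _ _).symm⟩
  | add a b ha hb =>
    obtain ⟨c, rfl⟩ := ha
    obtain ⟨d, rfl⟩ := hb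
    exact ⟨c + d, add_smul c d _⟩

theorem twisted_line {δ : X → ℤ} {k : ℤ} (hX : Cyc.IsSetup X δ) (hξ : δ ξ = k + 1) (hL : PicF.IsInvertible L)
    {s : Cyc.secFibre L ξ} (hs : s ≠ 0) :
    Twisted δ k (CohB1.tensorMod (N ξ) L) (N ξ) (Cyc.secDivFun δ L ξ s) := by
  haveI := hX.1
  obtain ⟨χ, hχ⟩ := exists_chi hL hs
  let ν : (St ξ).obj (N ξ) →ₗ[X.presheaf.stalk ξ] kmod ξ := ((St ξ).map (bN ξ) ≫ (skyCounit ξ (kmod ξ)).hom).hom
  let B := (LinearMap.mul (X.presheaf.stalk ξ) (IsLocalRing.ResidueField (X.presheaf.stalk ξ))).compl₁₂ ν χ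
  let θ : (St ξ).obj (tens (N ξ) L) ⟶ kmod ξ := (stalkTensorIso (N ξ) L ξ).inv ≫ ModuleCat.ofHom (TensorProduct.lift B)
  let a : tens (N ξ) L ⟶ skyObj ξ (kmod ξ) := skyLift ξ θ
  have hval : ∀ {y : X} (h : ξ ⤳ y) {U : X.Opens} (hy : y ∈ U) (e : Γ(L, U)),
      val a h ((stalkTensorIso (N ξ) L y).hom.hom (((N ξ).presheaf.germ U y hy (uSec ξ U) : (St y).obj (N ξ))
        ⊗ₜ (L.presheaf.germ U y hy e : (St y).obj L))) =
        (show X.residueField ξ from χ (L.presheaf.germ U ξ (h.mem_open U.2 hy) e)) := by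
    intro y h U hy e
    have hU := h.mem_open U.2 hy
    refine (congrArg (val a h) (KFlatLib.stalkTensorIso_hom_tmul _ L y hy (uSec ξ U) e)).trans ?_
    refine (val_skyLift θ h hy _).trans ?_
    have e1 : θ.hom ((stalkTensorIso (N ξ) L ξ).hom.hom (((N ξ).presheaf.germ U ξ hU (uSec ξ U) : (St ξ).obj (N ξ))
        ⊗ₜ (L.presheaf.germ U ξ hU e : (St ξ).obj L))) =
        B ((N ξ).presheaf.germ U ξ hU (uSec ξ U)) (L.presheaf.germ U ξ hU e) := by
      refine (congrArg (TensorProduct.lift B)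
        (congr($((stalkTensorIso (N ξ) L ξ).hom_inv_id).hom
          (((N ξ).presheaf.germ U ξ hU (uSec ξ U) : (St ξ).obj (N ξ)) ⊗ₜ (L.presheaf.germ U ξ hU e : (St ξ).obj L))))).trans ?_
      exact TensorProduct.lift.tmul _ _
    refine ((congrArg θ.hom (KFlatLib.stalkTensorIso_hom_tmul _ L ξ hU (uSec ξ U) e)).symm.trans e1).trans ?_
    have e2 : ν ((N ξ).presheaf.germ U ξ hU (uSec ξ U)) = (1 : X.residueField ξ) := by
      refine (congrArg (skyCounit ξ (kmod ξ)).hom.hom (DerSch.stalkFunctor_map_germ ξ (bN ξ) U hU _)).trans ?_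
      exact (KFlatLib.skyCounit_germ ξ _ _ _).trans (bN_uSec ξ _)
    show (show X.residueField ξ from ν _) * (show X.residueField ξ from χ _) = _
    rw [e2]
    exact one_mul _
  have hne : ∀ {U : X.Opens} (hU : ξ ∈ U) (e : Γ(L, U)), AmpleLib.GenOn L e →
      (show X.residueField ξ from χ (L.presheaf.germ U ξ hU e)) ≠ 0 := by
    intro U hU e he h0
    obtain ⟨φ, hφ⟩ := CycC1Lib.exists_coord (he.genAt hU) s
    have := hχ U e hU he φ hφ
    rw [h0, mul_zero] at this
    exact zero_ne_one this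
  haveI : Mono a := mono_of_stalks a fun y => (injective_iff_map_eq_zero _).2 fun m hm => by
    obtain ⟨z, rfl⟩ := (ConcreteCategory.bijective_of_isIso (stalkTensorIso (N ξ) L y).hom).2 m
    by_cases h : ξ ⤳ y
    · obtain ⟨U, e, hy, he⟩ := TwistLib.exists_genOn hL y
      obtain ⟨c, rfl⟩ := exists_smul_tmul hy he z
      have h0 : val a h ((stalkTensorIso (N ξ) L y).hom.hom (c • (((N ξ).presheaf.germ U y hy (uSec ξ U) : (St y).obj (N ξ))
        ⊗ₜ[X.presheaf.stalk y] (L.presheaf.germ U y hy e : (St y).obj L)))) = 0 := by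
        rw [← Category.comp_id a, ← val_comp]
        exact (congrArg (val (𝟙 _) h) hm).trans (map_zero _)
      replace h0 := (val_smul a h c _).symm.trans
        ((congrArg (val a h) (map_smul (stalkTensorIso (N ξ) L y).hom.hom c _)).symm.trans h0)
      replace h0 := (congrArg (Cyc.specMap y ξ h c * ·) (hval h hy e)).symm.trans h0
      rw [mul_eq_zero, or_iff_left (hne _ e he)] at h0
      have hu0 : c • ((N ξ).presheaf.germ U y hy (uSec ξ U) : (St y).obj (N ξ)) = 0 := by
        refine (ModuleCat.mono_iff_injective ((St y).map (bN ξ))).mp inferInstance (Eq.trans ?_ (map_zero _).symm)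
        exact eq_zero_of_val _ h ((val_smul _ h c _).trans (by rw [h0, zero_mul]))
      exact (congrArg (stalkTensorIso (N ξ) L y).hom.hom ((TensorProduct.smul_tmul' c _ _).trans
        ((congrArg (fun w : (St y).obj (N ξ) => w ⊗ₜ[X.presheaf.stalk y] (L.presheaf.germ U y hy e : (St y).obj L)) hu0).trans
          (TensorProduct.zero_tmul _ _)))).trans (map_zero _)
    · haveI := subsingleton_N (ξ := ξ) (y := y) h
      have hz : z = 0 := by
        clear hm
        induction z using TensorProduct.induction_on with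
        | zero => rfl
        | tmul n l => rw [Subsingleton.elim n 0, TensorProduct.zero_tmul]
        | add p q hp hq =>
          rw [hp, hq, add_zero]
      rw [hz]
      exact map_zero _
  refine twisted_of_gen hX hξ (show Coh.IsCoh (tens (N ξ) L) from SerreVanLib.isCoh_tensor (isCoh_N ξ) hL) a _
    (fun y hy => CycC1Lib.secDivFun_eq_zero_of_not hy s) fun y h => ?_
  obtain ⟨U, e, hy, he⟩ := TwistLib.exists_genOn hL y
  have hU := h.mem_open U.2 hy
  obtain ⟨φ, hφ⟩ := CycC1Lib.exists_coord (he.genAt hU) s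
  refine ⟨(stalkTensorIso (N ξ) L y).hom.hom (((N ξ).presheaf.germ U y hy (uSec ξ U) : (St y).obj (N ξ))
    ⊗ₜ (L.presheaf.germ U y hy e : (St y).obj L)), ?_, fun m => ?_, fun hd => ?_⟩
  · rw [hval h hy e]; exact hne hU e he
  · obtain ⟨z, rfl⟩ := (ConcreteCategory.bijective_of_isIso (stalkTensorIso (N ξ) L y).hom).2 m
    obtain ⟨c, rfl⟩ := exists_smul_tmul hy he z
    exact ⟨c, (map_smul _ _ _).symm⟩
  · rw [hval h hy e, CycC1Lib.secDivFun_eq_divFun hX he hy hU hφ, Cyc.divFun, dif_pos ⟨h, hd⟩,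
      inv_eq_of_mul_eq_one_left (hχ U e hU he φ hφ)]

end CycK0Lib

end
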